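import Cfsg.Agent.Lib.OddOrder.CAGroup
import Cfsg.Agent.Lib.Char.PermChar
import Cfsg.Agent.Lib.Char.KernelSum
import Cfsg.Agent.Lib.CharInt.Basic
import Cfsg.Agent.Lib.ZStar.Main
import Cfsg.Agent.Lib.ZStar.Consumers

/-!
# No simple group factorises as an involution centraliser times a self-centralising subgroup

If `B` is self-centralising, of order prime to `|C(z)|` and not a prime power, and
`|C(z)| |B| = |G|`, then `B` acts regularly on the class of `z`; the exceptional characters of `B`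
in the permutation character contradict `Z*`.
-/

set_option autoImplicit false
set_option linter.style.haveILetI false
set_option maxHeartbeats 800000

namespace Cfsg.Agent.ThreeSizes

open scoped ComplexConjugate
open Cfsg Cfsg.Agent Cfsg.Agent.Char Cfsg.Agent.OddOrder MulAction

universe u

variable {G : Type u} [Group G] [Fintype G]

/-- The arithmetic identifying the degree of an exceptional constituent. -/
theorem deg_eq {a e s d M : ℕ} {δ ε : ℤ} (he : 0 < e) (hs : 2 ≤ s) (ha : a = s * e + 1)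
    (hε : ε = 1 ∨ ε = -1) (h1 : (d : ℤ) = ε * e - ((a : ℤ) - 1) * δ)
    (h2 : δ ^ 2 * ((a : ℤ) - 1) - 2 * δ * ε * e + ((a : ℤ) * e - e * e) = (a : ℤ) * d - d * d)
    (hM : 2 ≤ M) (hMd : a = 1 + M * d) : d = e := by
  have hsz : (2 : ℤ) ≤ s := by exact_mod_cast hs
  have haz : (a : ℤ) = s * e + 1 := by exact_mod_cast ha
  have hea : (e : ℤ) * a ≠ 0 := by
    have : 0 < e * a := Nat.mul_pos he (by omega)
    exact_mod_cast this.ne'
  have key : (s : ℤ) * δ * (δ + 1) = 2 * ε * δ - (1 - ε) := by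
    rw [haz] at h1 h2
    refine mul_left_cancel₀ hea ?_
    rw [haz]
    rw [h1] at h2
    rcases hε with rfl | rfl <;> linear_combination h2
  rcases hε with rfl | rfl
  · have h3 : δ * ((s : ℤ) * (δ + 1) - 2) = 0 := by linear_combination key
    rcases mul_eq_zero.1 h3 with h | h
    · rw [h] at h1; push_cast at h1; omega
    · have h4 : δ + 1 = 1 := by
        have h5 : 0 < δ + 1 := by nlinarith
        have h6 : δ + 1 ≤ 1 := by nlinarith
        omega
      rw [show δ = 0 by omega] at h1; push_cast at h1; omega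
  · have h3 : (δ + 1) * ((s : ℤ) * δ + 2) = 0 := by linear_combination key
    have h4 : δ = -1 := by
      rcases mul_eq_zero.1 h3 with h | h
      · omega
      · have h5 : δ < 0 := by nlinarith
        have h6 : -1 ≤ δ := by nlinarith
        omega
    rw [h4, haz] at h1
    have h7 : (d : ℤ) = ((s : ℤ) - 1) * e := by linear_combination h1
    have h8 : (s : ℤ) * e = M * (((s : ℤ) - 1) * e) := by
      rw [← h7]
      have : (a : ℤ) = 1 + M * d := by exact_mod_cast hMd
      linarith
    have h9 : ((M : ℤ) - 1) * ((s : ℤ) - 1) = 1 := by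
      have : (e : ℤ) ≠ 0 := by exact_mod_cast he.ne'
      refine mul_left_cancel₀ this ?_
      linear_combination -h8
    have hMz : (2 : ℤ) ≤ M := by exact_mod_cast hM
    have h10 : (s : ℤ) - 1 = 1 := by nlinarith
    rw [h10, one_mul] at h7
    exact_mod_cast h7

/-- Fixed cosets. -/
theorem mem_fixedBy_iff {H : Subgroup G} {g k : G} :
    ((k : G ⧸ H) ∈ fixedBy (G ⧸ H) g) ↔ k⁻¹ * g * k ∈ H := by
  rw [mem_fixedBy, MulAction.Quotient.smul_coe, eq_comm, QuotientGroup.eq]
  simp [smul_eq_mul, mul_assoc]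

/-- Three orbits on pairs of cosets of the centraliser of an involution. -/
theorem three_le_rank_of_core (hO : oddCore G = ⊥) (hcenter : Subgroup.center G = ⊥)
    (hab : ∀ N : Subgroup G, N.Normal → (∀ x ∈ N, ∀ y ∈ N, x * y = y * x) → N = ⊥) {z : G}
    (hz : orderOf z = 2) :
    3 ≤ Nat.card (Quotient (orbitRel G ((G ⧸ Subgroup.centralizer ({z} : Set G)) ×
      (G ⧸ Subgroup.centralizer ({z} : Set G))))) := by
  classical
  set H := Subgroup.centralizer ({z} : Set G) with hH
  have hz1 : z ≠ 1 := fun e => by rw [e, orderOf_one] at hz; omega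
  obtain ⟨g, hgc, hgne⟩ : ∃ g : G, Commute z (g * z * g⁻¹) ∧ g * z * g⁻¹ ≠ z := by
    by_contra hall
    push Not at hall
    have hiso : IsIsolatedInvolution z := ⟨hz, hall⟩
    have := ZStar.mem_center_of_oddCore_eq_bot (ZStar.inZStar hiso) hO
    rw [hcenter, Subgroup.mem_bot] at this
    exact hz1 this
  obtain ⟨k, hk⟩ : ∃ k : G, ¬ Commute z (k * z * k⁻¹) := by
    by_contra hall
    push Not at hall
    set N := Subgroup.normalClosure ({z} : Set G) with hN
    have hNH : N ≤ H := by
      rw [hN, Subgroup.normalClosure]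
      refine (Subgroup.closure_le _).2 fun x hx => ?_
      obtain ⟨y, hy, hyx⟩ := Group.mem_conjugatesOfSet_iff.1 hx
      obtain rfl : y = z := hy
      obtain ⟨c, rfl⟩ := isConj_iff.1 hyx
      exact Subgroup.mem_centralizer_singleton_iff.2 (hall c).symm.eq
    refine hz1 (Subgroup.mem_bot.1 (hab N Subgroup.normalClosure_normal ?_ ▸
      (Subgroup.subset_normalClosure rfl : z ∈ N)))
    intro x hx
    suffices hle : N ≤ Subgroup.centralizer ({x} : Set G) from fun y hy =>
      (Subgroup.mem_centralizer_singleton_iff.1 (hle hy)).symm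
    rw [hN, Subgroup.normalClosure]
    refine (Subgroup.closure_le _).2 fun v hv => ?_
    obtain ⟨y, hy, hyv⟩ := Group.mem_conjugatesOfSet_iff.1 hv
    obtain rfl : y = z := hy
    obtain ⟨c, rfl⟩ := isConj_iff.1 hyv
    refine Subgroup.mem_centralizer_singleton_iff.2 ?_
    have h1 : c⁻¹ * x * c ∈ H :=
      hNH (by simpa using Subgroup.normalClosure_normal.conj_mem x hx c⁻¹)
    have h2 : c⁻¹ * x * c * y = y * (c⁻¹ * x * c) := Subgroup.mem_centralizer_singleton_iff.1 h1
    calc c * y * c⁻¹ * x = c * (y * (c⁻¹ * x * c)) * c⁻¹ := by group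
      _ = c * (c⁻¹ * x * c * y) * c⁻¹ := by rw [h2]
      _ = x * (c * y * c⁻¹) := by group
  -- the conjugate of `z` attached to a coset
  let conjOf : G ⧸ H → G := fun q => q.out * z * q.out⁻¹
  have hconj : ∀ x : G, conjOf (x : G ⧸ H) = x * z * x⁻¹ := by
    intro x
    obtain ⟨m, hm⟩ := QuotientGroup.mk_out_eq_mul H x
    have hmz : (m : G) * z = z * m := Subgroup.mem_centralizer_singleton_iff.1 m.2
    show (x : G ⧸ H).out * z * ((x : G ⧸ H).out)⁻¹ = _
    rw [hm, mul_inv_rev, mul_assoc x (m : G) z, hmz]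
    group
  have hsmul : ∀ (c : G) (q : G ⧸ H), conjOf (c • q) = c * conjOf q * c⁻¹ := by
    intro c q
    induction q using Quotient.inductionOn' with
    | h x =>
      show conjOf ((c * x : G) : G ⧸ H) = c * conjOf (x : G ⧸ H) * c⁻¹
      rw [hconj, hconj]; group
  let F : G → Quotient (orbitRel G ((G ⧸ H) × (G ⧸ H))) := fun x =>
    Quotient.mk'' (((1 : G) : G ⧸ H), (x : G ⧸ H))
  have hsep : ∀ x y : G, F x = F y →
      (z = x * z * x⁻¹ ↔ z = y * z * y⁻¹) ∧
        (Commute z (x * z * x⁻¹) ↔ Commute z (y * z * y⁻¹)) := by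
    intro x y hxy
    obtain ⟨c, hc⟩ := (Quotient.eq''.1 hxy : orbitRel G _ _ _)
    have h1 : c • ((1 : G) : G ⧸ H) = ((1 : G) : G ⧸ H) := congrArg Prod.fst hc
    have h2 : c • (y : G ⧸ H) = (x : G ⧸ H) := congrArg Prod.snd hc
    have e1 := hsmul c ((1 : G) : G ⧸ H)
    rw [h1, hconj, show (1 : G) * z * 1⁻¹ = z by group] at e1
    have e2 := hsmul c (y : G ⧸ H)
    rw [h2, hconj, hconj] at e2
    rw [e2]
    generalize y * z * y⁻¹ = w
    have hc' : c * z * c⁻¹ = z := e1.symm
    constructor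
    · constructor
      · intro h
        exact (MulAut.conj c).injective (hc'.trans h)
      · intro h
        rw [← h]; exact e1
    · constructor
      · intro h
        have h3 : Commute (c * z * c⁻¹) (c * w * c⁻¹) := by rw [hc']; exact h
        have := h3.map (MulAut.conj c⁻¹).toMonoidHom
        simpa [mul_assoc] using this
      · intro h
        have := h.map (MulAut.conj c).toMonoidHom
        change Commute (c * z * c⁻¹) (c * w * c⁻¹) at this
        rwa [hc'] at this
  have h01 : F 1 ≠ F g := fun h => hgne ((hsep _ _ h).1.1 (by group)).symm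
  have h02 : F 1 ≠ F k := fun h => hk ((hsep _ _ h).2.1 (by simp))
  have h12 : F g ≠ F k := fun h => hk ((hsep _ _ h).2.1 hgc)
  let f : Fin 3 → Quotient (orbitRel G ((G ⧸ H) × (G ⧸ H))) := ![F 1, F g, F k]
  have hinj : Function.Injective f := by
    intro i j hij
    fin_cases i <;> fin_cases j <;>
      simp [f, h01, h02, h12, h01.symm, h02.symm, h12.symm] at hij ⊢
  have := Nat.card_le_card_of_injective f hinj
  rwa [Nat.card_fin] at this

/-- Three orbits on pairs of cosets of the centraliser of an involution of a simple group. -/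
theorem three_le_rank [IsSimpleGroup G] (hne : ¬ ∀ a b : G, a * b = b * a) {z : G}
    (hz : orderOf z = 2) :
    3 ≤ Nat.card (Quotient (orbitRel G ((G ⧸ Subgroup.centralizer ({z} : Set G)) ×
      (G ⧸ Subgroup.centralizer ({z} : Set G))))) := by
  refine three_le_rank_of_core ?_ (OddOrder.center_eq_bot hne) (fun N hN hcomm => ?_) hz
  · rcases (inferInstance : (oddCore G).Normal).eq_bot_or_eq_top with h | h
    · exact h
    · exfalso
      have h1 : Odd (Nat.card (oddCore G)) := PCore.odd_card_oddCore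
      rw [h, Subgroup.card_top] at h1
      have h2 : orderOf z ∣ Nat.card G := orderOf_dvd_natCard z
      rw [hz] at h2
      obtain ⟨j, hj⟩ := h1
      omega
  · rcases hN.eq_bot_or_eq_top with h | h
    · exact h
    · exact absurd (fun a b => hcomm a (h ▸ Subgroup.mem_top a) b (h ▸ Subgroup.mem_top b)) hne

/-- In odd order no transitive action on at least two points is doubly transitive. -/
theorem three_le_rank_of_odd (hodd : Odd (Nat.card G)) {H : Subgroup G} (hH : H ≠ ⊤) :
    3 ≤ Nat.card (Quotient (orbitRel G ((G ⧸ H) × (G ⧸ H)))) := by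
  classical
  by_contra hlt
  obtain ⟨g, hg⟩ : ∃ g : G, g ∉ H := by
    by_contra hall
    push Not at hall
    exact hH (eq_top_iff.2 fun g _ => hall g)
  set x₀ : G ⧸ H := ((1 : G) : G ⧸ H) with hx₀
  set x₁ : G ⧸ H := ((g : G) : G ⧸ H) with hx₁
  have h01 : x₀ ≠ x₁ := fun h => hg (by
    have := QuotientGroup.eq.1 h
    rwa [inv_one, one_mul] at this)
  have hdiag : ∀ {u v : (G ⧸ H) × (G ⧸ H)}, (orbitRel G ((G ⧸ H) × (G ⧸ H))) u v → (u.1 = u.2 ↔ v.1 = v.2) := by
    rintro u v ⟨c, rfl⟩
    exact ⟨fun h => smul_left_cancel c h, fun h => congrArg (c • ·) h⟩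
  have hone : ∀ u : (G ⧸ H) × (G ⧸ H), u.1 ≠ u.2 → u ∈ orbit G (x₀, x₁) := by
    intro u hu
    by_contra hne'
    let F : Fin 3 → Quotient (orbitRel G ((G ⧸ H) × (G ⧸ H))) :=
      ![Quotient.mk'' (x₀, x₀), Quotient.mk'' (x₀, x₁), Quotient.mk'' u]
    have e01 : F 0 ≠ F 1 := fun h => h01 ((hdiag (Quotient.eq''.1 h)).1 rfl)
    have e02 : F 0 ≠ F 2 := fun h => hu ((hdiag (Quotient.eq''.1 h)).1 rfl)
    have e12 : F 1 ≠ F 2 := fun h => hne' (Quotient.eq''.1 h.symm)
    have hinj : Function.Injective F := by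
      intro i j hij
      fin_cases i <;> fin_cases j <;>
        simp [e01, e02, e12, e01.symm, e02.symm, e12.symm] at hij ⊢
    have := Nat.card_le_card_of_injective F hinj
    rw [Nat.card_fin] at this
    omega
  have horb : orbit G (x₀, x₁) = {u : (G ⧸ H) × (G ⧸ H) | u.1 ≠ u.2} := by
    ext u
    refine ⟨fun hu h => h01 ((hdiag (u := u) (v := (x₀, x₁)) hu).1 h), hone u⟩
  have hcard : Nat.card (orbit G (x₀, x₁)) ∣ Nat.card G := by
    rw [Nat.card_coe_set_eq, ← MulAction.index_stabilizer]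
    exact Subgroup.index_dvd_card _
  rw [horb] at hcard
  have hoff : Nat.card {u : (G ⧸ H) × (G ⧸ H) | u.1 ≠ u.2} + Nat.card (G ⧸ H) = Nat.card (G ⧸ H) * Nat.card (G ⧸ H) := by
    haveI : Fintype (G ⧸ H) := Fintype.ofFinite (G ⧸ H)
    rw [← Nat.card_prod, Nat.card_eq_fintype_card, Nat.card_eq_fintype_card,
      Nat.card_eq_fintype_card]
    have h1 := Fintype.card_subtype_compl (fun u : (G ⧸ H) × (G ⧸ H) => u.1 = u.2)
    have h2 : Fintype.card {u : (G ⧸ H) × (G ⧸ H) // u.1 = u.2} = Fintype.card (G ⧸ H) :=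
      Fintype.card_congr ⟨fun u => u.1.1, fun x => ⟨(x, x), rfl⟩,
        fun ⟨⟨a, b⟩, h⟩ => by cases h; rfl, fun _ => rfl⟩
    have h3 : Fintype.card {u : (G ⧸ H) × (G ⧸ H) | u.1 ≠ u.2} = Fintype.card {u : (G ⧸ H) × (G ⧸ H) // ¬ u.1 = u.2} :=
      Fintype.card_congr (Equiv.refl _)
    have h4 := Fintype.card_subtype_le (fun u : (G ⧸ H) × (G ⧸ H) => u.1 = u.2)
    omega
  have hXG : Nat.card (G ⧸ H) ∣ Nat.card G := Subgroup.index_dvd_card H
  have h2 : Odd (Nat.card (G ⧸ H)) := hodd.of_dvd_nat hXG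
  have h3 : Odd (Nat.card {u : (G ⧸ H) × (G ⧸ H) | u.1 ≠ u.2}) := hodd.of_dvd_nat hcard
  have h4 := h3.add_odd h2
  rw [hoff] at h4
  exact (Nat.not_odd_iff_even.2 h4) (h2.mul h2)

theorem false_of_regular_of_core {z : G}
    (hcore : (Subgroup.centralizer ({z} : Set G)).normalCore = ⊥)
    (hrk : 3 ≤ Nat.card (Quotient (orbitRel G ((G ⧸ Subgroup.centralizer ({z} : Set G)) ×
      (G ⧸ Subgroup.centralizer ({z} : Set G))))))
    {B : Subgroup G} (hB : IsSelfCent B) (hBn : ¬ B.Normal)
    (hco : (Nat.card (Subgroup.centralizer ({z} : Set G))).Coprime (Nat.card B))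
    (hcard : Nat.card (Subgroup.centralizer ({z} : Set G)) * Nat.card B = Nat.card G)
    (hnp : ∀ p k : ℕ, p.Prime → Nat.card B ≠ p ^ k) : False := by
  classical
  set H := Subgroup.centralizer ({z} : Set G) with hH
  set a := Nat.card B with ha
  have ha1 : a ≠ 1 := fun e => hnp 2 0 Nat.prime_two (by rw [pow_zero]; exact e)
  have ha0 : 0 < a := Nat.card_pos
  -- the normaliser
  set e := (B.subgroupOf (Subgroup.normalizer (B : Set G))).index with he
  have he0 : 0 < e := Nat.pos_of_ne_zero Subgroup.index_ne_zero_of_finite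
  obtain ⟨s, hs⟩ : e ∣ a - 1 := Cfsg.Agent.S0196.result B hB
  have hNcard : Nat.card (Subgroup.normalizer (B : Set G)) = a * e := card_normalizer hB
  -- the permutation character
  let π : G → ℂ := fun g => (Nat.card (fixedBy (G ⧸ H) g) : ℂ)
  have hπc : IsCharacter G π := isCharacter_fixedBy _
  have hπ1 : π 1 = (a : ℂ) := by
    simp only [π]
    rw [show fixedBy (G ⧸ H) (1 : G) = Set.univ by ext q; simp, Nat.card_congr (Equiv.Set.univ _)]
    congr 1
    have h1 := H.card_mul_index
    rw [← hcard] at h1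
    exact Nat.eq_of_mul_eq_mul_left Nat.card_pos h1
  have hπB : ∀ b : B, b ≠ 1 → π (b : G) = 0 := by
    intro b hb
    have : IsEmpty (fixedBy (G ⧸ H) (b : G)) := by
      refine ⟨fun ⟨q, hq⟩ => ?_⟩
      induction q using Quotient.inductionOn' with
      | h k =>
        have hmem := mem_fixedBy_iff.1 hq
        refine hb (Subtype.ext (orderOf_eq_one_iff.1 ?_))
        refine Nat.eq_one_of_dvd_coprimes hco ?_ (Subgroup.orderOf_dvd_natCard _ b.2)
        have h2 := Subgroup.orderOf_dvd_natCard _ hmem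
        rwa [show k⁻¹ * (b : G) * k = MulAut.conj k⁻¹ (b : G) by simp, MulEquiv.orderOf_eq] at h2
    simp only [π]
    rw [Nat.card_of_isEmpty, Nat.cast_zero]
  have hfaith : ∀ g : G, g ≠ 1 → Nat.card (fixedBy (G ⧸ H) g) < a := by
    intro g hg
    have hle : Nat.card (fixedBy (G ⧸ H) g) ≤ Nat.card (G ⧸ H) :=
      Nat.card_le_card_of_injective _ Subtype.val_injective
    have hq : Nat.card (G ⧸ H) = a := by
      have h1 := H.card_mul_index
      rw [← hcard] at h1
      exact Nat.eq_of_mul_eq_mul_left Nat.card_pos h1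
    rw [hq] at hle
    refine lt_of_le_of_ne hle fun heq => hg ?_
    have huniv : fixedBy (G ⧸ H) g = Set.univ :=
      Set.eq_of_subset_of_ncard_le (Set.subset_univ _)
        (by rw [Set.ncard_univ, hq, ← Nat.card_coe_set_eq, heq]) (Set.toFinite _)
    have hgcore : g ∈ H.normalCore := fun k => by
      have h2 := mem_fixedBy_iff.1 (show ((k⁻¹ : G) : G ⧸ H) ∈ fixedBy (G ⧸ H) g by
        rw [huniv]; trivial)
      rwa [inv_inv] at h2
    rw [hH] at hgcore
    rwa [hcore, Subgroup.mem_bot] at hgcore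
  -- decomposition
  obtain ⟨m, hm⟩ := Char.IsCharacter.exists_decomp hπc
  have hmeq : ∀ g : G, π g = ∑ χ : IrrCharacter G, (m χ : ℂ) * χ.1 g := fun g => by
    rw [hm.1]; simp [Finset.sum_apply]
  have hminner : ∀ χ : IrrCharacter G, classInner π χ.1 = (m χ : ℂ) := hm.2
  have hm1 : m (trivialChar G) = 1 := by
    have h1 := classInner_fixedBy_one (G := G) (G ⧸ H)
    have h2 : Nat.card (Quotient (orbitRel G (G ⧸ H))) = 1 := by
      haveI := (pretransitive_iff_subsingleton_quotient G (G ⧸ H)).1 inferInstance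
      exact Nat.card_eq_one_iff_unique.2 ⟨inferInstance, ⟨Quotient.mk'' ((1 : G) : G ⧸ H)⟩⟩
    rw [h2] at h1
    have h3 := hminner (trivialChar G)
    change classInner π (fun _ => (1 : ℂ)) = _ at h3
    exact_mod_cast h3.symm.trans h1
  have hrank : 3 ≤ ∑ χ : IrrCharacter G, m χ * m χ := by
    have h1 := classInner_fixedBy_self (G := G) (G ⧸ H)
    change classInner π π = _ at h1
    have h2 : classInner π π = ((∑ χ : IrrCharacter G, m χ * m χ : ℕ) : ℂ) := by
      conv_lhs => arg 2; rw [hm.1]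
      rw [classInner_sum_right]
      push_cast
      refine Finset.sum_congr rfl fun χ _ => ?_
      rw [classInner_smul_right, hminner]
      simp
    rw [h2] at h1
    have h3 : (∑ χ : IrrCharacter G, m χ * m χ) = Nat.card (Quotient (orbitRel G ((G ⧸ H) × (G ⧸ H)))) := by
      exact_mod_cast h1
    rw [h3]
    exact hrk
  -- restriction to `B`
  have hab : ∀ x y : B, x * y = y * x := fun x y => Subtype.ext (hB.comm x.2 y.2)
  have hlin : ∀ lam : IrrCharacter B, lam.1 1 = 1 := fun lam => apply_one_of_comm hab lam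
  let mult : IrrCharacter G → IrrCharacter B → ℂ := fun χ lam =>
    classInner (fun x : B => χ.1 x) lam.1
  have hmultnat : ∀ χ lam, ∃ n : ℕ, mult χ lam = n := fun χ lam =>
    IsCharacter.exists_nat_classInner (IsCharacter.restrict (irr_isCharacter χ) B) (irr_isCharacter lam)
  choose μ hμ using hmultnat
  have hsum1 : ∀ lam : IrrCharacter B, ∑ χ : IrrCharacter G, m χ * μ χ lam = 1 := by
    intro lam
    have h1 : classInner (fun x : B => π x) lam.1 = 1 := by
      rw [classInner, Finset.sum_eq_single (1 : B) (fun x _ hx => by rw [hπB x hx, zero_mul])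
        (fun h => absurd (Finset.mem_univ _) h), Subgroup.coe_one, hπ1, hlin, map_one, mul_one]
      exact inv_mul_cancel₀ (Nat.cast_ne_zero.2 ha0.ne')
    have h2 : (fun x : B => π x) = ∑ χ : IrrCharacter G, (m χ : ℂ) • fun x : B => χ.1 x := by
      funext x; rw [Finset.sum_apply, hmeq]; rfl
    rw [h2, classInner_sum_left] at h1
    have h3 : ((∑ χ : IrrCharacter G, m χ * μ χ lam : ℕ) : ℂ) = 1 := by
      rw [← h1]
      push_cast
      refine Finset.sum_congr rfl fun χ _ => ?_
      rw [classInner_smul_left]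
      congr 1
      exact (hμ χ lam).symm
    exact_mod_cast h3
  have hle1 : ∀ χ lam, m χ * μ χ lam ≤ 1 := fun χ lam =>
    hsum1 lam ▸ Finset.single_le_sum (f := fun χ => m χ * μ χ lam) (fun _ _ => Nat.zero_le _)
      (Finset.mem_univ χ)
  have hμtriv : μ (trivialChar G) (trivialChar B) = 1 := by
    have h1 := hμ (trivialChar G) (trivialChar B)
    have h2 : mult (trivialChar G) (trivialChar B) = 1 :=
      classInner_irr_self (trivialChar B).2
    rw [h2] at h1
    exact_mod_cast h1.symm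
  have hdeg : ∀ χ : IrrCharacter G, χ.1 1 = ((∑ lam : IrrCharacter B, μ χ lam : ℕ) : ℂ) := by
    intro χ
    have h1 := congrFun (eq_sum_classInner_smul
      (IsCharacter.isClassFunction (IsCharacter.restrict (irr_isCharacter χ) B))) 1
    rw [Finset.sum_apply] at h1
    simp only [Pi.smul_apply, smul_eq_mul, hlin, mul_one] at h1
    rw [← Subgroup.coe_one B, h1]
    push_cast
    exact Finset.sum_congr rfl fun lam _ => hμ χ lam
  have hmle : ∀ χ : IrrCharacter G, m χ ≤ 1 := by
    intro χ
    by_contra hgt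
    have h1 : degree χ = 0 := by
      have h2 := hdeg χ
      rw [apply_one_eq_degree] at h2
      rw [Nat.cast_injective h2]
      refine Finset.sum_eq_zero fun lam _ => ?_
      by_contra hne0
      have := hle1 χ lam
      have : m χ * 1 ≤ m χ * μ χ lam := Nat.mul_le_mul_left _ (by omega)
      omega
    have := degree_pos χ
    omega
  have htriv0 : ∀ χ : IrrCharacter G, χ ≠ trivialChar G → m χ = 1 → μ χ (trivialChar B) = 0 := by
    intro χ hχ hmχ
    have h1 := hsum1 (trivialChar B)
    rw [← Finset.add_sum_erase _ _ (Finset.mem_univ (trivialChar G)), hm1, one_mul, hμtriv] at h1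
    have h2 : m χ * μ χ (trivialChar B) ≤
        ∑ x ∈ Finset.univ.erase (trivialChar G), m x * μ x (trivialChar B) :=
      Finset.single_le_sum (f := fun x => m x * μ x (trivialChar B)) (fun _ _ => Nat.zero_le _)
        (Finset.mem_erase.2 ⟨hχ, Finset.mem_univ _⟩)
    rw [hmχ, one_mul] at h2
    omega
  set T : Finset B := Finset.univ.erase 1 with hT
  have hTmem : ∀ x : B, x ∈ T ↔ x ≠ 1 := fun x => by simp [hT]
  have hTcard : (T.card : ℂ) = (a : ℂ) - 1 := by
    rw [hT, Finset.card_erase_of_mem (Finset.mem_univ _), Finset.card_univ, ← Nat.card_eq_fintype_card,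
      Nat.cast_sub ha0, Nat.cast_one]
  have hsumB : ∀ f : B → ℂ, ∑ x, f x = f 1 + ∑ x ∈ T, f x := fun f =>
    (Finset.add_sum_erase _ _ (Finset.mem_univ 1)).symm
  have hrow0 : ∀ χ : IrrCharacter G, χ ≠ trivialChar G → m χ = 1 →
      χ.1 1 + ∑ x ∈ T, χ.1 (x : G) = 0 := by
    intro χ hχ hmχ
    have h1 := hμ χ (trivialChar B)
    rw [htriv0 χ hχ hmχ, Nat.cast_zero] at h1
    simp only [mult, classInner] at h1
    rcases mul_eq_zero.1 h1 with h2 | h2
    · rw [inv_eq_zero, Nat.cast_eq_zero] at h2; omega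
    · rw [hsumB] at h2
      simpa [trivialChar] using h2
  have hrow2 : ∀ χ : IrrCharacter G, m χ = 1 →
      χ.1 1 * conj (χ.1 1) + ∑ x ∈ T, χ.1 (x : G) * conj (χ.1 (x : G)) = (a : ℂ) * χ.1 1 := by
    intro χ hmχ
    have h1 := classInner_eq_sum
      (f' := fun x : B => χ.1 x)
      (IsCharacter.isClassFunction (IsCharacter.restrict (irr_isCharacter χ) B))
    have h2 : ∑ lam : IrrCharacter B, classInner (fun x : B => χ.1 x) lam.1 *
        conj (classInner (fun x : B => χ.1 x) lam.1) = χ.1 1 := by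
      rw [hdeg χ]
      push_cast
      refine Finset.sum_congr rfl fun lam _ => ?_
      have h3 := hle1 χ lam
      rw [hmχ, one_mul] at h3
      show mult χ lam * conj (mult χ lam) = _
      rw [hμ χ lam, map_natCast]
      interval_cases (μ χ lam) <;> norm_num
    have h2' : ∑ lam : IrrCharacter B, classInner (fun x : B => χ.1 x) lam.1 *
        classInner lam.1 (fun x : B => χ.1 x) = χ.1 1 := by
      rw [← h2]
      exact Finset.sum_congr rfl fun lam _ => congrArg (_ * ·) (conj_classInner _ _).symm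
    rw [h2'] at h1
    have h4 : ∑ x : B, χ.1 (x : G) * conj (χ.1 (x : G)) = (a : ℂ) * χ.1 1 := by
      rw [← h1, classInner, ← mul_assoc, mul_inv_cancel₀ (Nat.cast_ne_zero.2 ha0.ne'), one_mul]
    rw [hsumB, Subgroup.coe_one] at h4
    exact h4
  -- more than one orbit
  have hs2 : 2 ≤ s := by
    by_contra hlt
    have hea : e = a - 1 := by
      interval_cases s
      · omega
      · omega
    obtain ⟨r, hr, hra⟩ := Nat.exists_prime_and_dvd ha1
    haveI := Fact.mk hr
    obtain ⟨b, hb⟩ := exists_prime_orderOf_dvd_card' r (G := B) hra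
    have hb1 : b ≠ 1 := fun h => by rw [h, orderOf_one] at hb; exact hr.ne_one hb.symm
    set N := Subgroup.normalizer (B : Set G) with hN
    let φ : N → {x : B // x ≠ 1} := fun n => ⟨normConj B n b, fun h1 => hb1 ((map_eq_one_iff _
      (normConj B n).injective).1 h1)⟩
    have hfib : ∀ n n' : N, φ n = φ n' → (n'⁻¹ * n : N) ∈ B.subgroupOf N := by
      intro n n' hnn
      have h1 : (n : G) * b * (n : G)⁻¹ = (n' : G) * b * (n' : G)⁻¹ :=
        congrArg (fun x => ((x : {x : B // x ≠ 1}).1 : G)) hnn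
      rw [Subgroup.mem_subgroupOf, ← hB b b.2 fun h => hb1 (Subtype.ext h),
        Subgroup.mem_centralizer_singleton_iff]
      show (n' : G)⁻¹ * n * b = b * ((n' : G)⁻¹ * n)
      calc (n' : G)⁻¹ * n * b = (n' : G)⁻¹ * ((n : G) * b * (n : G)⁻¹) * n := by group
        _ = (n' : G)⁻¹ * ((n' : G) * b * (n' : G)⁻¹) * n := by rw [h1]
        _ = b * ((n' : G)⁻¹ * n) := by group
    let ψ : N ⧸ B.subgroupOf N → {x : B // x ≠ 1} := fun q => φ q.out
    have hψ : Function.Injective ψ := by
      intro q q' h1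
      rw [← QuotientGroup.out_eq' q, ← QuotientGroup.out_eq' q']
      exact (QuotientGroup.eq.2 (hfib _ _ h1.symm))
    have hψs : Function.Surjective ψ := by
      refine (Function.Injective.bijective_of_nat_card_le hψ ?_).2
      have hc : Nat.card {x : B // x ≠ 1} = a - 1 := by
        rw [Nat.card_eq_fintype_card, Fintype.card_subtype_compl, Fintype.card_subtype_eq,
          ← Nat.card_eq_fintype_card]
      show _ ≤ (B.subgroupOf N).index
      rw [hc, ← he, hea]
    have hord : ∀ x : B, x ≠ 1 → orderOf x = r := by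
      intro x hx
      obtain ⟨q, hq⟩ := hψs ⟨x, hx⟩
      have h1 : normConj B q.out b = x := congrArg Subtype.val hq
      rw [← h1, MulEquiv.orderOf_eq, hb]
    obtain ⟨k, hk⟩ := (show IsPGroup r B from fun x => ⟨1, by
      by_cases hx : x = 1
      · rw [hx, one_pow]
      · rw [pow_one, ← hord x hx]; exact pow_orderOf_eq_one x⟩).exists_card_eq
    exact hnp r k hr hk
  obtain ⟨D⟩ := exists_exceptionalData hB (e := e) (s := s) rfl
    (by rw [mul_comm]; exact hs.symm) hs2
  have has : a = s * e + 1 := by rw [mul_comm]; omega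
  -- constituents are exceptional
  have hexc : ∀ χ : IrrCharacter G, χ ≠ trivialChar G → m χ = 1 → χ ∈ Set.range D.θ := by
    intro χ hχ hmχ
    by_contra hno
    obtain ⟨c, hc⟩ := D.const χ hno
    have h1 := hrow0 χ hχ hmχ
    rw [Finset.sum_congr rfl fun x hx => hc x ((hTmem x).1 hx), Finset.sum_const, nsmul_eq_mul,
      hTcard, apply_one_eq_degree] at h1
    have h1' : (degree χ : ℤ) + ((a : ℤ) - 1) * c = 0 := by exact_mod_cast h1
    have hdpos := degree_pos χ
    have hc1 : c ≤ -1 := by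
      by_contra hc0
      have : 0 ≤ ((a : ℤ) - 1) * c := mul_nonneg (by omega) (by omega)
      omega
    have hdge : a ≤ degree χ + 1 := by
      have : (a : ℤ) - 1 ≤ degree χ := by nlinarith
      omega
    -- all the degree is used up
    have hsumdeg : ∑ x : IrrCharacter G, m x * degree x = a := by
      have h2 := hmeq 1
      rw [hπ1, Finset.sum_congr rfl fun x _ => show (m x : ℂ) * x.1 1 = ((m x * degree x : ℕ) : ℂ) by
        rw [apply_one_eq_degree]; push_cast; rfl] at h2
      exact_mod_cast h2.symm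
    have hother : ∀ x : IrrCharacter G, x ≠ χ → x ≠ trivialChar G → m x = 0 := by
      intro x hx hx'
      by_contra hx0
      have h3 : m χ * degree χ + m (trivialChar G) * degree (trivialChar G) + m x * degree x ≤ a := by
        rw [← hsumdeg]
        refine le_trans (le_of_eq ?_) (Finset.sum_le_sum_of_subset
          (f := fun x => m x * degree x) (Finset.subset_univ ({χ, trivialChar G, x} : Finset _)))
        rw [Finset.sum_insert (by simp [hχ, hx.symm]), Finset.sum_insert (by simp [hx'.symm]),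
          Finset.sum_singleton]
        ring
      have h4 : 0 < m x * degree x := Nat.mul_pos (Nat.pos_of_ne_zero hx0) (degree_pos x)
      have h5 := degree_pos (trivialChar G)
      rw [hmχ, hm1, one_mul, one_mul] at h3
      omega
    have hr2 : ∑ x : IrrCharacter G, m x * m x = 2 := by
      rw [← Finset.sum_subset (Finset.subset_univ ({χ, trivialChar G} : Finset _)) fun x _ hx => by
        simp only [Finset.mem_insert, Finset.mem_singleton, not_or] at hx
        rw [hother x hx.1 hx.2, zero_mul],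
        Finset.sum_insert (by simp [hχ]), Finset.sum_singleton, hmχ, hm1]
    omega
  -- the set of exceptional constituents
  set J := Finset.univ.filter fun i : Fin s => D.θ i ≠ trivialChar G ∧ m (D.θ i) = 1 with hJ
  set M := J.card with hM
  have hdec : ∀ g : G, π g = 1 + ∑ i ∈ J, (D.θ i).1 g := by
    intro g
    rw [hmeq, ← Finset.add_sum_erase _ _ (Finset.mem_univ (trivialChar G)), hm1, Nat.cast_one,
      one_mul]
    congr 1
    rw [← Finset.sum_image (g := D.θ) (f := fun χ => χ.1 g) fun i _ j _ h => D.inj h]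
    symm
    refine (Finset.sum_congr rfl fun χ hχ => ?_).trans (Finset.sum_subset ?_ fun χ hχ hχ' => ?_)
    · obtain ⟨i, hi, rfl⟩ := Finset.mem_image.1 hχ
      rw [(Finset.mem_filter.1 hi).2.2, Nat.cast_one, one_mul]
    · intro χ hχ
      obtain ⟨i, hi, rfl⟩ := Finset.mem_image.1 hχ
      exact Finset.mem_erase.2 ⟨(Finset.mem_filter.1 hi).2.1, Finset.mem_univ _⟩
    · have hχ1 := (Finset.mem_erase.1 hχ).1
      have : m χ = 0 := by
        by_contra h0
        have hmχ : m χ = 1 := le_antisymm (hmle χ) (Nat.pos_of_ne_zero h0)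
        obtain ⟨i, rfl⟩ := hexc χ hχ1 hmχ
        exact hχ' (Finset.mem_image.2 ⟨i, Finset.mem_filter.2 ⟨Finset.mem_univ _, hχ1, hmχ⟩, rfl⟩)
      rw [this, Nat.cast_zero, zero_mul]
  have hM2 : 2 ≤ M := by
    have h1 : ∑ χ : IrrCharacter G, m χ * m χ = 1 + M := by
      rw [← Finset.add_sum_erase _ _ (Finset.mem_univ (trivialChar G)), hm1, mul_one]
      congr 1
      rw [hM, ← Finset.card_image_of_injective J D.inj, Finset.card_eq_sum_ones]
      symm
      refine (Finset.sum_congr rfl fun χ hχ => ?_).trans (Finset.sum_subset ?_ fun χ hχ hχ' => ?_)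
      · obtain ⟨i, hi, rfl⟩ := Finset.mem_image.1 hχ
        rw [(Finset.mem_filter.1 hi).2.2]
      · intro χ hχ
        obtain ⟨i, hi, rfl⟩ := Finset.mem_image.1 hχ
        exact Finset.mem_erase.2 ⟨(Finset.mem_filter.1 hi).2.1, Finset.mem_univ _⟩
      · have hχ1 := (Finset.mem_erase.1 hχ).1
        by_contra hne0
        have hm0 : m χ ≠ 0 := fun h => hne0 (by rw [h, zero_mul])
        have hmχ : m χ = 1 := le_antisymm (hmle χ) (Nat.pos_of_ne_zero hm0)
        obtain ⟨i, rfl⟩ := hexc χ hχ1 hmχ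
        exact hχ' (Finset.mem_image.2 ⟨i, Finset.mem_filter.2 ⟨Finset.mem_univ _, hχ1, hmχ⟩, rfl⟩)
    omega
  obtain ⟨i₀, hi₀⟩ : J.Nonempty := Finset.card_pos.1 (by omega)
  obtain ⟨hχ₀, hm₀⟩ := (Finset.mem_filter.1 hi₀).2
  set f := (D.θ i₀).1 with hf
  set d := degree (D.θ i₀) with hd
  have hf1 : f 1 = (d : ℂ) := apply_one_eq_degree _
  have hMd : a = 1 + M * d := by
    have h1 := hdec 1
    rw [hπ1, Finset.sum_congr rfl fun i _ => D.off_one i i₀, Finset.sum_const, nsmul_eq_mul,
      ← hf, hf1] at h1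
    exact_mod_cast h1
  have hsumT : ∑ x ∈ T, f (x : G) = -(d : ℂ) := by
    linear_combination hrow0 _ hχ₀ hm₀ - hf1
  have hde : d = e := by
    have hv : ∀ x ∈ T, f (x : G) = (D.δ : ℂ) + (D.ε : ℂ) * D.P i₀ x := fun x hx =>
      D.value i₀ x ((hTmem x).1 hx)
    have h1 : (d : ℂ) = (D.ε : ℂ) * e - ((a : ℂ) - 1) * D.δ := by
      rw [Finset.sum_congr rfl hv, Finset.sum_add_distrib, Finset.sum_const, nsmul_eq_mul, hTcard,
        ← Finset.mul_sum, D.sum_P_row i₀ T hTmem] at hsumT
      linear_combination hsumT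
    have h2 : (D.δ : ℂ) ^ 2 * ((a : ℂ) - 1) - 2 * D.δ * D.ε * e + ((a : ℂ) * e - e * e) =
        (a : ℂ) * d - d * d := by
      have h3 := hrow2 _ hm₀
      rw [← hf, hf1, Complex.conj_natCast] at h3
      have hcP : ∑ x ∈ T, conj (D.P i₀ x) = -(e : ℂ) := by
        rw [← map_sum, D.sum_P_row i₀ T hTmem, map_neg, Complex.conj_natCast]
      have hε2 : (D.ε : ℂ) * D.ε = 1 := by
        rcases D.ε_eq with h | h <;> simp [h]
      have h4 : ∑ x ∈ T, f (x : G) * conj (f (x : G)) =
          (D.δ : ℂ) ^ 2 * ((a : ℂ) - 1) - 2 * D.δ * D.ε * e + ((a : ℂ) * e - e * e) := by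
        rw [Finset.sum_congr rfl fun (x : B) hx => show f (x : G) * conj (f (x : G)) =
            (D.δ : ℂ) ^ 2 + (D.δ : ℂ) * D.ε * D.P i₀ x + (D.δ : ℂ) * D.ε * conj (D.P i₀ x) +
              D.P i₀ x * conj (D.P i₀ x) by
          rw [hv x hx, map_add, map_mul, map_intCast, map_intCast]
          linear_combination D.P i₀ x * conj (D.P i₀ x) * hε2,
          Finset.sum_add_distrib, Finset.sum_add_distrib, Finset.sum_add_distrib, Finset.sum_const,
          nsmul_eq_mul, hTcard, ← Finset.mul_sum, ← Finset.mul_sum, D.sum_P_row i₀ T hTmem, hcP,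
          D.sum_sq_row i₀ T hTmem]
        ring
      linear_combination h3 - h4
    exact deg_eq he0 hs2 has D.ε_eq (by exact_mod_cast h1) (by exact_mod_cast h2) hM2 hMd
  -- sums over the group
  set n := conjUnion B with hn
  set R : Finset G := (Finset.univ.erase (1 : G)) \ n with hR
  have hone : (1 : G) ∉ n := fun h => (mem_conjUnion.1 h).1 rfl
  have hsplit : ∀ φ : G → ℂ, ∑ g, φ g = φ 1 + ∑ g ∈ n, φ g + ∑ g ∈ R, φ g := by
    intro φ
    rw [← Finset.add_sum_erase _ _ (Finset.mem_univ (1 : G)), add_assoc,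
      ← Finset.sum_sdiff (s₁ := n) (s₂ := Finset.univ.erase 1) fun x hx => Finset.mem_erase.2
        ⟨fun h => hone (h ▸ hx), Finset.mem_univ _⟩]
    ring
  set c := Nat.card H with hc'
  have hac : (a : ℂ) ≠ 0 := Nat.cast_ne_zero.2 ha0.ne'
  have hec : (e : ℂ) ≠ 0 := Nat.cast_ne_zero.2 he0.ne'
  have hGc : (Nat.card G : ℂ) = (c : ℂ) * a := by rw [← hcard]; push_cast; rfl
  have hcu : ∀ φ : G → ℂ, IsClassFunction G φ → (a : ℂ) * e * ∑ g ∈ n, φ g =
      (c : ℂ) * a * ∑ x ∈ T, φ (x : G) := by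
    intro φ hφ
    have h1 := sum_conjUnion hB φ hφ T hTmem
    rwa [hNcard, Nat.cast_mul, hGc] at h1
  have hfc : IsClassFunction G f := IsCharacter.isClassFunction (irr_isCharacter _)
  have hs1 : ∑ g ∈ n, f g = -(c : ℂ) := by
    have h1 := hcu f hfc
    rw [hsumT, hde] at h1
    exact mul_left_cancel₀ (mul_ne_zero hac hec) (by linear_combination h1)
  have hsT2 : ∑ x ∈ T, f (x : G) * conj (f (x : G)) = (a : ℂ) * e - e * e := by
    have h3 := hrow2 _ hm₀
    rw [← hf, hf1, Complex.conj_natCast, hde] at h3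
    linear_combination h3
  have hfc2 : IsClassFunction G fun g => f g * conj (f g) := fun x y => by
    show f (y * x * y⁻¹) * conj (f (y * x * y⁻¹)) = _
    rw [hfc]
  have hs2' : ∑ g ∈ n, f g * conj (f g) = (c : ℂ) * a - c * e := by
    have h1 := hcu _ hfc2
    rw [hsT2] at h1
    exact mul_left_cancel₀ (mul_ne_zero hac hec) (by linear_combination h1)
  have hR1 : ∑ g ∈ R, f g = (c : ℂ) - e := by
    have h1 := sum_apply_eq_zero hχ₀
    rw [← hf, hsplit, hf1, hs1, hde] at h1
    linear_combination h1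
  have hR2 : ∑ g ∈ R, f g * conj (f g) = (c : ℂ) * e - e * e := by
    have h1 := classInner_irr_self (D.θ i₀).2
    rw [← hf, classInner] at h1
    have h2 : ∑ g, f g * conj (f g) = (Nat.card G : ℂ) := by
      rw [← mul_one (Nat.card G : ℂ), ← h1, ← mul_assoc,
        mul_inv_cancel₀ (Nat.cast_ne_zero.2 Nat.card_pos.ne'), one_mul]
    rw [hsplit, hf1, Complex.conj_natCast, hs2', hde, hGc] at h2
    linear_combination h2
  -- values off the conjugates of `B`
  have hval : ∀ g ∈ R, ∃ k : ℕ, f g = k ∧ k + 1 ≤ e := by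
    intro g hg
    obtain ⟨hg1, hgn⟩ := Finset.mem_sdiff.1 hg
    have hg1' := (Finset.mem_erase.1 hg1).1
    have hoff : ∀ i, (D.θ i).1 g = f g := fun i =>
      D.off i i₀ g fun c hc => hgn (mem_conjUnion.2 ⟨hg1', c, hc⟩)
    have h1 := hdec g
    rw [Finset.sum_congr rfl fun i _ => hoff i, Finset.sum_const, nsmul_eq_mul] at h1
    set P := Nat.card (fixedBy (G ⧸ H) g) with hP
    have hPlt : P < a := hfaith g hg1'
    change (P : ℂ) = 1 + (M : ℂ) * f g at h1
    have hMc : (M : ℂ) ≠ 0 := Nat.cast_ne_zero.2 (by omega)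
    have hrat : f g = ((((P : ℤ) - 1 : ℤ) : ℚ) / (M : ℚ) : ℚ) := by
      push_cast
      rw [eq_div_iff hMc]
      linear_combination -h1
    have hint : IsIntegral ℤ (f g) := CharInt.isIntegral_char (irr_isCharacter _) g
    rw [hrat, show (((((P : ℤ) - 1 : ℤ) : ℚ) / (M : ℚ) : ℚ) : ℂ) =
      algebraMap ℚ ℂ ((((P : ℤ) - 1 : ℤ) : ℚ) / (M : ℚ)) from rfl,
      isIntegral_algebraMap_iff (algebraMap ℚ ℂ).injective] at hint
    obtain ⟨k, hk⟩ := IsIntegrallyClosed.isIntegral_iff.1 hint
    have hfk : f g = (k : ℂ) := by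
      rw [hrat, ← hk]
      simp
    rw [hfk] at h1
    have h1' : (P : ℤ) = 1 + (M : ℤ) * k := by exact_mod_cast h1
    have hk0 : 0 ≤ k := by
      by_contra hneg
      have : (M : ℤ) * k ≤ (M : ℤ) * (-1) := mul_le_mul_of_nonneg_left (by omega) (by omega)
      omega
    obtain ⟨k', rfl⟩ := Int.eq_ofNat_of_zero_le hk0
    refine ⟨k', by rw [hfk]; norm_num, ?_⟩
    by_contra hlt
    have h5 : M * e ≤ M * k' := Nat.mul_le_mul_left M (by omega)
    have h6 : (P : ℤ) = ((1 + M * k' : ℕ) : ℤ) := by push_cast; exact h1'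
    have h7 : P = 1 + M * k' := by exact_mod_cast h6
    rw [hMd, hde] at hPlt
    omega
  choose k hk hke using hval
  have hT1 : ((∑ g : R, k g.1 g.2 : ℕ) : ℂ) = (c : ℂ) - e := by
    rw [← hR1, ← Finset.sum_coe_sort R f]
    push_cast
    exact Finset.sum_congr rfl fun g _ => (hk g.1 g.2).symm
  have hT2 : ((∑ g : R, k g.1 g.2 * k g.1 g.2 : ℕ) : ℂ) = (c : ℂ) * e - e * e := by
    rw [← hR2, ← Finset.sum_coe_sort R fun g => f g * conj (f g)]
    push_cast
    refine Finset.sum_congr rfl fun g _ => ?_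
    rw [hk g.1 g.2, Complex.conj_natCast]
  have hle : (∑ g : R, k g.1 g.2 * k g.1 g.2) ≤ (e - 1) * ∑ g : R, k g.1 g.2 := by
    rw [Finset.mul_sum]
    exact Finset.sum_le_sum fun g _ => Nat.mul_le_mul_right _ (by have := hke g.1 g.2; omega)
  set X := ∑ g : R, k g.1 g.2 with hX
  set Y := ∑ g : R, k g.1 g.2 * k g.1 g.2 with hY
  have hXz : (X : ℤ) = (c : ℤ) - e := by exact_mod_cast hT1
  have hYz : (Y : ℤ) = (c : ℤ) * e - e * e := by exact_mod_cast hT2
  have hlez : (Y : ℤ) ≤ ((e : ℤ) - 1) * X := by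
    have h8 : (Y : ℤ) ≤ (((e - 1) * X : ℕ) : ℤ) := by exact_mod_cast hle
    rwa [Nat.cast_mul, Nat.cast_sub he0, Nat.cast_one] at h8
  rw [hXz, hYz] at hlez
  have hce : (c : ℤ) ≤ e := by nlinarith
  have hce' : c ≤ e := by exact_mod_cast hce
  have hNtop : Subgroup.normalizer (B : Set G) = ⊤ := by
    refine Subgroup.eq_top_of_le_card _ ?_
    rw [hNcard, ← hcard, mul_comm c a]
    exact Nat.mul_le_mul_left a hce'
  exact hBn (Subgroup.normalizer_eq_top_iff.1 hNtop)

/-- The same in a simple group. -/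
theorem false_of_regular [IsSimpleGroup G] (hne : ¬ ∀ a b : G, a * b = b * a) {z : G}
    (hz1 : z ≠ 1)
    (hrk : 3 ≤ Nat.card (Quotient (orbitRel G ((G ⧸ Subgroup.centralizer ({z} : Set G)) ×
      (G ⧸ Subgroup.centralizer ({z} : Set G))))))
    {B : Subgroup G} (hB : IsSelfCent B)
    (hco : (Nat.card (Subgroup.centralizer ({z} : Set G))).Coprime (Nat.card B))
    (hcard : Nat.card (Subgroup.centralizer ({z} : Set G)) * Nat.card B = Nat.card G)
    (hnp : ∀ p k : ℕ, p.Prime → Nat.card B ≠ p ^ k) : False := by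
  refine false_of_regular_of_core ?_ hrk hB (fun hn => ?_) hco hcard hnp
  · rcases (Subgroup.normalCore_normal (Subgroup.centralizer ({z} : Set G))).eq_bot_or_eq_top with
      h | h
    · exact h
    · exfalso
      have : z ∈ Subgroup.center G := Subgroup.mem_center_iff.2 fun x =>
        Subgroup.mem_centralizer_singleton_iff.1 (Subgroup.normalCore_le _ (h ▸ Subgroup.mem_top x))
      rw [OddOrder.center_eq_bot hne, Subgroup.mem_bot] at this
      exact hz1 this
  · rcases hn.eq_bot_or_eq_top with h | h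
    · exact hnp 2 0 Nat.prime_two (by rw [pow_zero, h, Subgroup.card_bot])
    · exact hne fun x y => hB.comm (h ▸ Subgroup.mem_top x) (h ▸ Subgroup.mem_top y)

end Cfsg.Agent.ThreeSizes
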