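import Cfsg.Agent.Lib.PSL2.ThreeSizes.Basic
import Cfsg.Agent.Lib.PSL2.ThreeSizes.Regular
import Cfsg.Agent.Lib.CharInt.Burnside
import Cfsg.Agent.Lib.OddOrder.CNGroup

/-!
# Simple groups with three centraliser orders
-/

set_option autoImplicit false
set_option linter.style.haveILetI false

namespace Cfsg.Agent.ThreeSizes

open Cfsg Cfsg.Agent Cfsg.Agent.ClassSize.CoprimeTop
open scoped MatrixGroups

universe u

variable {G : Type u} [Group G] [Finite G]

/-- The centraliser order. -/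
noncomputable def co (g : G) : ℕ := Nat.card (cent g)

theorem co_pos (g : G) : 0 < co g := Nat.card_pos

theorem co_mul_cl (g : G) : co g * cl g = Nat.card G := (cent g).card_mul_index

theorem co_dvd {x y : G} (h : cent x ≤ cent y) : co x ∣ co y := Subgroup.card_dvd_of_le h

theorem eq_of_co {x y : G} (h : cent x ≤ cent y) (he : co x = co y) : cent x = cent y :=
  Subgroup.eq_of_le_of_card_ge h he.ge

theorem co_conj (g h : G) : co (h * g * h⁻¹) = co g := by
  have h1 := co_mul_cl (h * g * h⁻¹)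
  rw [cl_conj, ← co_mul_cl g] at h1
  exact Nat.eq_of_mul_eq_mul_right (cl_pos g) h1

theorem orderOf_dvd_co (g : G) : orderOf g ∣ co g := Subgroup.orderOf_dvd_natCard _ (self_mem_cent g)

variable [IsSimpleGroup G] (hne : ¬ IsMulCommutative G)
include hne

theorem co_lt {g : G} (hg : g ≠ 1) : co g < Nat.card G := by
  refine lt_of_le_of_ne (Nat.le_of_dvd Nat.card_pos (Subgroup.card_subgroup_dvd_card _)) fun h => hg ?_
  haveI := Fintype.ofFinite G
  have hZ : Subgroup.center G = ⊥ := OddOrder.center_eq_bot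
    fun h1 => hne (isMulCommutative_iff.2 h1)
  have hg' : g ∈ Subgroup.center G := by
    rw [← cl_eq_one]
    have := co_mul_cl g
    rw [h] at this
    exact Nat.eq_of_mul_eq_mul_left Nat.card_pos (this.trans (mul_one _).symm)
  rwa [hZ, Subgroup.mem_bot] at hg'

omit [IsSimpleGroup G] hne in
/-- Every prime power dividing `|G|` divides a centraliser order. -/
theorem exists_full {q : ℕ} (hq : q.Prime) (hqG : q ∣ Nat.card G) :
    ∃ x : G, x ≠ 1 ∧ (∃ i, orderOf x = q ^ i) ∧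
      ∀ j, q ^ j ∣ Nat.card G → q ^ j ∣ co x := by
  haveI := Fact.mk hq
  obtain ⟨P⟩ := (inferInstance : Nonempty (Sylow q G))
  have hP := P.dvd_card_of_dvd_card hqG
  haveI : Nontrivial (P : Subgroup G) := Finite.one_lt_card_iff_nontrivial.1
    (lt_of_lt_of_le hq.one_lt (Nat.le_of_dvd Nat.card_pos hP))
  haveI := P.isPGroup'.center_nontrivial
  obtain ⟨c, hc⟩ := exists_ne (1 : Subgroup.center (P : Subgroup G))
  have hle : (P : Subgroup G) ≤ cent ((c : (P : Subgroup G)) : G) := fun v hv => mem_cent.2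
    (congrArg Subtype.val (Subgroup.mem_center_iff.1 c.2 ⟨v, hv⟩)).symm
  refine ⟨_, fun e => hc (Subtype.ext (Subtype.ext e)), ?_, fun j hj => ?_⟩
  · obtain ⟨i, hi⟩ := (IsPGroup.iff_orderOf.1 P.isPGroup') (c : (P : Subgroup G))
    exact ⟨i, by rw [← hi, Subgroup.orderOf_coe]⟩
  · refine dvd_trans ?_ (Subgroup.card_dvd_of_le hle)
    rw [P.card_eq_multiplicity]
    exact pow_dvd_pow _ ((hq.pow_dvd_iff_le_factorization Nat.card_pos.ne').1 hj)

omit [IsSimpleGroup G] hne in
theorem card_dvd_of_forall {n : ℕ} (hn : ∀ x : G, x ≠ 1 → co x ∣ n) : Nat.card G ∣ n := by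
  refine (Nat.dvd_iff_prime_pow_dvd_dvd n (Nat.card G)).2 fun q j hq hj => ?_
  rcases Nat.eq_zero_or_pos j with rfl | hj0
  · simp
  obtain ⟨x, hx1, -, hx⟩ := exists_full hq ((dvd_pow_self q hj0.ne').trans hj)
  exact (hx j hj).trans (hn x hx1)

/-- Three centraliser orders, one properly dividing another: the third is incomparable. -/
theorem orders_of_dvd {C : Finset ℕ} (hC : C.card = 3) (hmem : ∀ n, n ∈ C ↔ ∃ x : G, x ≠ 1 ∧ co x = n)
    {c₁ c₂ : ℕ} (h1 : c₁ ∈ C) (h2 : c₂ ∈ C) (hd : c₁ ∣ c₂) (hne12 : c₁ ≠ c₂) :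
    ∃ c₃ ∈ C, (∀ n ∈ C, n = c₁ ∨ n = c₂ ∨ n = c₃) ∧ ¬ c₂ ∣ c₃ ∧ ¬ c₃ ∣ c₂ ∧ ¬ c₃ ∣ c₁ ∧
      Nat.card G ∣ Nat.lcm c₂ c₃ := by
  obtain ⟨x, y, w, hxy, hxw, hyw, rfl⟩ := Finset.card_eq_three.1 hC
  obtain ⟨c₃, hc₃, hne31, hne32⟩ : ∃ c₃ ∈ ({x, y, w} : Finset ℕ), c₃ ≠ c₁ ∧ c₃ ≠ c₂ := by
    simp only [Finset.mem_insert, Finset.mem_singleton] at h1 h2
    by_cases hx : x ≠ c₁ ∧ x ≠ c₂
    · exact ⟨x, by simp, hx⟩
    by_cases hy : y ≠ c₁ ∧ y ≠ c₂
    · exact ⟨y, by simp, hy⟩
    refine ⟨w, by simp, ?_⟩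
    push Not at hx hy
    omega
  have hall : ∀ n ∈ ({x, y, w} : Finset ℕ), n = c₁ ∨ n = c₂ ∨ n = c₃ := by
    intro n hn
    simp only [Finset.mem_insert, Finset.mem_singleton] at h1 h2 hc₃ hn
    omega
  have htop : ∀ c ∈ ({x, y, w} : Finset ℕ), ∀ u : ({x, y, w} : Finset ℕ),
      (∀ n ∈ ({x, y, w} : Finset ℕ), n ∣ c) → False := by
    intro c hc _ hdiv
    obtain ⟨v, hv1, hv⟩ := (hmem c).1 hc
    have h := card_dvd_of_forall (n := c) fun z hz => hdiv _ ((hmem _).2 ⟨z, hz, rfl⟩)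
    have := co_lt hne hv1
    have := Nat.le_of_dvd (hv ▸ co_pos v) h
    omega
  have h23 : ¬ c₂ ∣ c₃ := fun h => htop c₃ hc₃ ⟨x, by simp⟩ fun n hn => by
    rcases hall n hn with rfl | rfl | rfl
    exacts [hd.trans h, h, dvd_rfl]
  have h32 : ¬ c₃ ∣ c₂ := fun h => htop c₂ h2 ⟨x, by simp⟩ fun n hn => by
    rcases hall n hn with rfl | rfl | rfl
    exacts [hd, dvd_rfl, h]
  refine ⟨c₃, hc₃, hall, h23, h32, fun h => h32 (h.trans hd), card_dvd_of_forall fun z hz => ?_⟩
  rcases hall _ ((hmem _).2 ⟨z, hz, rfl⟩) with h | h | h <;> rw [h]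
  exacts [hd.trans (Nat.dvd_lcm_left _ _), Nat.dvd_lcm_left _ _, Nat.dvd_lcm_right _ _]

omit [IsSimpleGroup G] hne in
/-- Without proper inclusions between centralisers, all centralisers are nilpotent. -/
theorem isCN_of_noInclusion
    (hF : ∀ x y : G, x ≠ 1 → y ≠ 1 → cent x ≤ cent y → cent x = cent y) : IsCNGroup G := by
  intro g hg
  obtain ⟨p, hp, hpg⟩ := Nat.exists_prime_and_dvd (fun e => hg (orderOf_eq_one_iff.1 e))
  haveI := Fact.mk hp
  obtain ⟨y, y', hy, -, hgy, -, -, hpy, hyp⟩ := exists_split p g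
  have hy1 : y ≠ 1 := by
    rintro rfl
    rw [one_mul] at hgy
    rw [hgy] at hpg
    exact hp.not_dvd_one (hyp.gcd_eq_one ▸ Nat.dvd_gcd hpg dvd_rfl)
  have hgyc : cent g = cent y := hF g y hg hy1 (cent_le_of_mem_zpowers hy)
  show Group.IsNilpotent (cent g)
  rw [hgyc]
  refine Group.of_quotient_center_nilpotent ?_
  have hyord : ∃ k, orderOf y = p ^ k := ⟨_, Nat.eq_prime_pow_of_unique_prime_dvd (orderOf_pos y).ne'
    fun {d} hd hdy => (Nat.prime_dvd_prime_iff_eq hd hp).1 (hpy d hd hdy)⟩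
  obtain ⟨k, hk⟩ := hyord
  have hP : IsPGroup p (cent y ⧸ Subgroup.center (cent y)) := by
    intro q
    induction q using Quotient.inductionOn' with
    | h v =>
      obtain ⟨v₁, v₂, hv₁, hv₂, hv, -, -, hpv, hvp⟩ := exists_split p (v : G)
      obtain ⟨j, hj⟩ : ∃ j, orderOf v₁ = p ^ j :=
        ⟨_, Nat.eq_prime_pow_of_unique_prime_dvd (orderOf_pos v₁).ne'
          fun {d} hd hdy => (Nat.prime_dvd_prime_iff_eq hd hp).1 (hpv d hd hdy)⟩
      refine ⟨j, ?_⟩
      change QuotientGroup.mk' _ v ^ p ^ j = 1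
      rw [← map_pow, QuotientGroup.mk'_apply, QuotientGroup.eq_one_iff, Subgroup.mem_center_iff]
      intro w
      have hv₁y : v₁ ∈ cent y := (Subgroup.zpowers_le.2 v.2) hv₁
      have hv₂y : v₂ ∈ cent y := (Subgroup.zpowers_le.2 v.2) hv₂
      have hcomm : Commute v₁ v₂ := by
        obtain ⟨i, rfl⟩ := hv₁
        obtain ⟨l, rfl⟩ := hv₂
        exact ((Commute.refl (v : G)).zpow_left i).zpow_right l
      have hpow : (v : G) ^ p ^ j = v₂ ^ p ^ j := by
        rw [hv, hcomm.mul_pow, ← hj, pow_orderOf_eq_one, one_mul]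
      have hwv₂ : Commute (w : G) v₂ := by
        by_cases h1 : v₂ = 1
        · rw [h1]; exact Commute.one_right _
        have hc : y * v₂ = v₂ * y := (mem_cent.1 hv₂y).trans rfl
        have hco : (orderOf y).Coprime (orderOf v₂) := hk ▸ Nat.Coprime.pow_left _ hvp.symm
        have hinf := cent_mul_coprime hc hco
        have hyv1 : y * v₂ ≠ 1 := fun e => by
          have := (show Commute y v₂ from hc).orderOf_mul_eq_mul_orderOf_of_coprime hco
          rw [e, orderOf_one] at this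
          exact hy1 (orderOf_eq_one_iff.1 (Nat.eq_one_of_mul_eq_one_right this.symm))
        have e1 := hF _ _ hyv1 hy1 (hinf.le.trans inf_le_left)
        have e2 := hF _ _ hyv1 h1 (hinf.le.trans inf_le_right)
        have hw : (w : G) ∈ cent v₂ := e2 ▸ e1.symm ▸ w.2
        exact (mem_cent.1 hw).symm
      apply Subtype.ext
      show (w : G) * ((v : G) ^ p ^ j) = (v : G) ^ p ^ j * (w : G)
      rw [hpow]
      exact hwv₂.pow_right _
  exact hP.isNilpotent

section Cases

variable (h2G : 2 ∣ Nat.card G)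
include h2G

/-- If all 2-elements have the same centraliser as their squares and odd elements of an
involution's centraliser have larger centralisers, then `G` is `PSL_2 (2^m)`. -/
theorem psl_of_squares
    (hsq : ∀ u : G, (∃ k, orderOf u = 2 ^ k) → u ^ 2 ≠ 1 → cent u = cent (u ^ 2))
    (hodd : ∀ t v : G, orderOf t = 2 → v ∈ cent t → (orderOf v).Coprime 2 → cent t ≤ cent v) :
    ∃ (m : ℕ) (F : Type) (_ : Field F) (_ : Fintype F), 2 ≤ m ∧ Fintype.card F = 2 ^ m ∧
      Nonempty (G ≃* PSL(2, F)) := by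
  haveI : Fact (Nat.Prime 2) := ⟨Nat.prime_two⟩
  refine exists_psl hne h2G fun t ht => cent_comm_of (fun T => sylow_two_comm T fun u hu => ?_)
    fun v hv hv2 w hw => mem_cent.1 (hodd t v ht hv hv2 hw)
  refine hsq u ?_
  obtain ⟨k, hk⟩ := (IsPGroup.iff_orderOf.1 T.isPGroup') ⟨u, hu⟩
  exact ⟨k, by rw [← hk, Subgroup.orderOf_mk]⟩

end Cases

theorem psl_of_three {C : Finset ℕ} (hC : C.card = 3)
    (hmem : ∀ n, n ∈ C ↔ ∃ x : G, x ≠ 1 ∧ co x = n) :
    ∃ (m : ℕ) (F : Type) (_ : Field F) (_ : Fintype F), 2 ≤ m ∧ Fintype.card F = 2 ^ m ∧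
      Nonempty (G ≃* PSL(2, F)) := by
  classical
  letI := Fintype.ofFinite G
  have hin : ∀ x : G, x ≠ 1 → co x ∈ C := fun x hx => (hmem _).2 ⟨x, hx, rfl⟩
  by_cases hF : ∀ x y : G, x ≠ 1 → y ≠ 1 → cent x ≤ cent y → cent x = cent y
  · have hne' : ¬ ∀ a b : G, a * b = b * a := fun h1 => hne (isMulCommutative_iff.2 h1)
    by_cases h2G : 2 ∣ Nat.card G
    swap
    · exfalso
      have hodd : Odd (Nat.card G) := Nat.odd_iff.2 (by omega)
      haveI := OddOrder.CN.isSolvable_of_isCN hodd (isCN_of_noInclusion hF)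
      exact hne' (IsSimpleGroup.comm_iff_isSolvable.mpr inferInstance)
    refine psl_of_squares hne h2G (fun u _ hu2 => hF u (u ^ 2) (fun e => hu2 (by rw [e, one_pow]))
      hu2 (cent_le_of_mem_zpowers (pow_mem (Subgroup.mem_zpowers u) 2))) fun t v ht hv hv2 => ?_
    have ht1 : t ≠ 1 := fun e => by rw [e, orderOf_one] at ht; omega
    by_cases hv1 : v = 1
    · exact fun g _ => mem_cent.2 (by rw [hv1, one_mul, mul_one])
    have hcm : t * v = v * t := mem_cent.1 hv
    have hco2 : (orderOf t).Coprime (orderOf v) := ht ▸ hv2.symm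
    have hinf := cent_mul_coprime hcm hco2
    have htv1 : t * v ≠ 1 := fun e => by
      have := (show Commute t v from hcm).orderOf_mul_eq_mul_orderOf_of_coprime hco2
      rw [e, orderOf_one, ht] at this
      omega
    have h1 := hF _ _ htv1 ht1 (hinf.le.trans inf_le_left)
    have h2 := hF _ _ htv1 hv1 (hinf.le.trans inf_le_right)
    exact (h1.symm.trans h2).le
  push Not at hF
  obtain ⟨x₁, x₂, hx₁, hx₂, hle, hlne⟩ := hF
  obtain ⟨c₁, hc₁d⟩ : ∃ c, c = co x₁ := ⟨_, rfl⟩
  obtain ⟨c₂, hc₂d⟩ : ∃ c, c = co x₂ := ⟨_, rfl⟩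
  have hc₁ : c₁ ∈ C := hc₁d ▸ hin x₁ hx₁
  have hc₂ : c₂ ∈ C := hc₂d ▸ hin x₂ hx₂
  have hd : c₁ ∣ c₂ := by rw [hc₁d, hc₂d]; exact co_dvd hle
  have hne12 : c₁ ≠ c₂ := fun e => hlne (eq_of_co hle (hc₁d ▸ hc₂d ▸ e))
  obtain ⟨c₃, hc₃, hall, h23, h32, h31, hlcm⟩ := orders_of_dvd hne hC hmem hc₁ hc₂ hd hne12
  have htype : ∀ x : G, x ≠ 1 → co x = c₁ ∨ co x = c₂ ∨ co x = c₃ := fun x hx => hall _ (hin x hx)
  have h21 : ¬ c₂ ∣ c₁ := fun h => hne12 (Nat.dvd_antisymm hd h)
  -- coprime indices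
  have hidx : ∀ a b : G, co a = c₂ → co b = c₃ → (cl a).Coprime (cl b) := by
    intro a b ha hb
    refine Nat.coprime_of_dvd fun r hr hra hrb => ?_
    have h1 : r * c₂ ∣ Nat.card G := by
      rw [← ha, ← co_mul_cl a, mul_comm]; exact mul_dvd_mul_left _ hra
    have h2 : r * c₃ ∣ Nat.card G := by
      rw [← hb, ← co_mul_cl b, mul_comm]; exact mul_dvd_mul_left _ hrb
    have h3 : r * Nat.lcm c₂ c₃ ∣ Nat.card G := by
      rw [← Nat.lcm_mul_left]; exact Nat.lcm_dvd h1 h2
    have h4 : r * Nat.card G ∣ Nat.card G := (mul_dvd_mul_left r hlcm).trans h3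
    have h5 := Nat.le_of_dvd Nat.card_pos h4
    have h6 : 2 * Nat.card G ≤ r * Nat.card G := Nat.mul_le_mul_right _ hr.two_le
    have := Nat.card_pos (α := G)
    omega
  -- the two maximal types never commute
  have hnc : ∀ a b : G, co a = c₂ → co b = c₃ → a ≠ 1 → b ≠ 1 → a ∉ cent b := by
    intro a b ha hb ha1 hb1 hab
    have hco := (hidx a b ha hb).symm
    set N := Subgroup.normalClosure ({a} : Set G) with hN
    have hNb : N ≤ cent b := by
      rw [hN, Subgroup.normalClosure]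
      refine (Subgroup.closure_le _).2 fun x hx => ?_
      obtain ⟨y, hy, hyx⟩ := Group.mem_conjugatesOfSet_iff.1 hx
      obtain rfl : y = a := hy
      obtain ⟨g, rfl⟩ := isConj_iff.1 hyx
      obtain ⟨β, hβ, α, hα, rfl⟩ := exists_mul_of_coprime hco g
      have h1 : α * y * α⁻¹ = y := mul_inv_eq_iff_eq_mul.2 (mem_cent.1 hα).symm
      rw [show β * α * y * (β * α)⁻¹ = β * (α * y * α⁻¹) * β⁻¹ by group, h1]
      exact mul_mem (mul_mem hβ hab) (inv_mem hβ)
    rcases (Subgroup.normalClosure_normal (s := ({a} : Set G))).eq_bot_or_eq_top with h | h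
    · exact ha1 (Subgroup.mem_bot.1 (h ▸ Subgroup.subset_normalClosure rfl))
    · have := co_lt hne hb1
      have htop : cent b = ⊤ := eq_top_iff.2 fun x _ => hNb (by rw [hN, h]; exact Subgroup.mem_top x)
      rw [co, htop, Subgroup.card_top] at this
      omega
  -- primary representatives
  have hprim : ∀ c, (c = c₂ ∨ c = c₃) → ∀ x : G, x ≠ 1 → co x = c →
      ∃ y : G, y ≠ 1 ∧ co y = c ∧ ∃ p i, p.Prime ∧ orderOf y = p ^ i := by
    intro c hc x hx hxc
    obtain ⟨p, hp, hpx⟩ := Nat.exists_prime_and_dvd (fun e => hx (orderOf_eq_one_iff.1 e))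
    obtain ⟨y, w, hy, -, hxy, -, -, hpy, hwp⟩ := exists_split p x
    have hy1 : y ≠ 1 := by
      rintro rfl
      rw [one_mul] at hxy
      rw [hxy] at hpx
      exact hp.not_dvd_one (hwp.gcd_eq_one ▸ Nat.dvd_gcd hpx dvd_rfl)
    refine ⟨y, hy1, ?_, p, _, hp, Nat.eq_prime_pow_of_unique_prime_dvd (orderOf_pos y).ne'
      fun {d} hd hdy => (Nat.prime_dvd_prime_iff_eq hd hp).1 (hpy d hd hdy)⟩
    have h1 := co_dvd (cent_le_of_mem_zpowers hy)
    rw [hxc] at h1
    rcases hc with rfl | rfl <;> rcases htype y hy1 with h | h | h <;> rw [h] at h1 ⊢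
    · exact absurd h1 h21
    · exact absurd h1 h23
    · exact absurd h1 h31
    · exact absurd h1 h32
  obtain ⟨x₃, hx₃, hx₃c⟩ := (hmem c₃).1 hc₃
  obtain ⟨a₀, ha₀1, ha₀, pa, ia, hpa, hoa⟩ := hprim c₂ (Or.inl rfl) x₂ hx₂ hc₂d.symm
  obtain ⟨b₀, hb₀1, hb₀, pb, ib, hpb, hob⟩ := hprim c₃ (Or.inr rfl) x₃ hx₃ hx₃c
  have hinter : ∀ a b : G, co a = c₂ → co b = c₃ →
      Nat.card (cent a ⊓ cent b : Subgroup G) * Nat.card G = c₂ * c₃ := by
    intro a b ha hb
    have h1 := (cent a ⊓ cent b).card_mul_index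
    rw [index_inf_of_coprime (hidx a b ha hb)] at h1
    change Nat.card (cent a ⊓ cent b : Subgroup G) * (cl a * cl b) = Nat.card G at h1
    rw [← ha, ← hb]
    calc Nat.card (cent a ⊓ cent b : Subgroup G) * Nat.card G
        = Nat.card (cent a ⊓ cent b : Subgroup G) * (Nat.card G * 1) := by rw [mul_one]
      _ = co a * co b := by
        have h2 := co_mul_cl a
        have h3 := co_mul_cl b
        have hG : 0 < Nat.card G := Nat.card_pos
        refine Nat.eq_of_mul_eq_mul_right (Nat.mul_pos (cl_pos a) (cl_pos b)) ?_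
        rw [mul_one, mul_comm (Nat.card (cent a ⊓ cent b : Subgroup G)) (Nat.card G), mul_assoc, h1]
        calc Nat.card G * Nat.card G = (co a * cl a) * (co b * cl b) := by rw [h2, h3]
          _ = co a * co b * (cl a * cl b) := by ring
  have hcop : Nat.card G = c₂ * c₃ := by
    suffices hg : Nat.card (cent a₀ ⊓ cent b₀ : Subgroup G) = 1 by
      have := hinter a₀ b₀ ha₀ hb₀
      rwa [hg, one_mul] at this
    by_contra hg
    obtain ⟨r, hr, hrg⟩ := Nat.exists_prime_and_dvd hg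
    haveI := Fact.mk hr
    -- every primary element of maximal type is an `r`-element
    have key : ∀ a b : G, co a = c₂ → co b = c₃ → a ≠ 1 → b ≠ 1 →
        ((orderOf a).Coprime r → False) ∧ ((orderOf b).Coprime r → False) := by
      intro a b ha hb ha1 hb1
      have hr' : r ∣ Nat.card (cent a ⊓ cent b : Subgroup G) := by
        have h1 := hinter a b ha hb
        rw [← hinter a₀ b₀ ha₀ hb₀] at h1
        rwa [Nat.eq_of_mul_eq_mul_right Nat.card_pos h1]
      obtain ⟨v, hv⟩ := exists_prime_orderOf_dvd_card' r hr'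
      have hv' : orderOf (v : G) = r := by rw [Subgroup.orderOf_coe, hv]
      have hva : (v : G) ∈ cent a := v.2.1
      have hvb : (v : G) ∈ cent b := v.2.2
      have hv1 : (v : G) ≠ 1 := fun e => by rw [e, orderOf_one] at hv'; exact hr.ne_one hv'.symm
      have hv₁ : co (v : G) = c₁ := by
        rcases htype _ hv1 with h | h | h
        · exact h
        · exact absurd hvb (hnc _ b h hb hv1 hb1)
        · exact absurd (cent_comm.1 hva) (hnc a _ ha h ha1 hv1)
      have gen : ∀ x : G, x ≠ 1 → (co x = c₂ ∨ co x = c₃) → (v : G) ∈ cent x →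
          (orderOf x).Coprime r → cent (v : G) ≤ cent x := by
        intro x hx1 hxc hvx hxr
        have hcm : (v : G) * x = x * (v : G) := (mem_cent.1 hvx).symm
        have hco2 : (orderOf (v : G)).Coprime (orderOf x) := hv' ▸ hxr.symm
        have hinf := cent_mul_coprime hcm hco2
        have hvx1 : (v : G) * x ≠ 1 := fun e => by
          have := (show Commute (v : G) x from hcm).orderOf_mul_eq_mul_orderOf_of_coprime hco2
          rw [e, orderOf_one, hv'] at this
          exact hr.ne_one (Nat.eq_one_of_mul_eq_one_right this.symm)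
        have hd1 : co ((v : G) * x) ∣ c₁ := hv₁ ▸ co_dvd (hinf.le.trans inf_le_left)
        have heq : cent ((v : G) * x) = cent (v : G) := by
          refine eq_of_co (hinf.le.trans inf_le_left) ?_
          rcases htype _ hvx1 with h | h | h
          · rw [h, hv₁]
          · exact absurd (h ▸ hd1) h21
          · exact absurd (h ▸ hd1) h31
        exact heq ▸ hinf.le.trans inf_le_right
      exact ⟨fun hc => hnc a b ha hb ha1 hb1
          (cent_comm.1 (gen a ha1 (Or.inl ha) hva hc (cent_comm.1 hvb))),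
        fun hc => hnc a b ha hb ha1 hb1
          (gen b hb1 (Or.inr hb) hvb hc (cent_comm.1 hva))⟩
    obtain ⟨j, M, hM, hj⟩ := Nat.exists_eq_pow_mul_and_not_dvd (cl_pos a₀).ne' r hr.ne_one
    have hM1 : M = 1 := by
      by_contra hne1
      obtain ⟨q, hq, hqM⟩ := Nat.exists_prime_and_dvd hne1
      have hqr : q ≠ r := fun e => hM (e ▸ hqM)
      have hqcl : q ∣ cl a₀ := hj ▸ hqM.mul_left _
      have hqG : q ∣ Nat.card G := hqcl.trans (Dvd.intro_left _ (co_mul_cl a₀))
      obtain ⟨w, hw1, ⟨i, hwi⟩, hwfull⟩ := exists_full hq hqG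
      have hwr : (orderOf w).Coprime r := by
        rw [hwi]; exact Nat.Coprime.pow_left _ ((Nat.coprime_primes hq hr).2 hqr)
      have hwc : co w ∣ c₂ := by
        rcases htype w hw1 with h | h | h
        · rw [h]; exact hd
        · exact ((key w b₀ h hb₀ hw1 hb₀1).1 hwr).elim
        · exact ((key a₀ w ha₀ h ha₀1 hw1).2 hwr).elim
      -- then `q` does not divide the index
      have hfull := hwfull ((Nat.card G).factorization q) (Nat.ordProj_dvd _ q)
      obtain ⟨F, hFd⟩ : ∃ F, F = (Nat.card G).factorization q := ⟨_, rfl⟩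
      rw [← hFd] at hfull
      obtain ⟨k, hk⟩ := hfull.trans (hwc.trans (dvd_of_eq ha₀.symm))
      have h1 : q ^ (F + 1) ∣ Nat.card G := by
        rw [pow_succ, ← co_mul_cl a₀]
        exact mul_dvd_mul ⟨k, hk⟩ hqcl
      have := (hq.pow_dvd_iff_le_factorization Nat.card_pos.ne').1 h1
      omega
    rw [hM1, mul_one] at hj
    have hprime := CharInt.card_prime_of_class_prime_pow hr ha₀1 hj
    haveI := Fact.mk hprime
    haveI := isCyclic_of_prime_card (α := G) rfl
    exact hne ⟨⟨fun x y => (IsCyclic.commGroup (α := G)).mul_comm x y⟩⟩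
  have hco23 : c₂.Coprime c₃ := by
    refine Nat.coprime_of_dvd fun r hr h2 h3 => ?_
    have h4 : r * Nat.lcm c₂ c₃ ∣ c₂ * c₃ := by
      rw [← Nat.gcd_mul_lcm c₂ c₃]
      exact mul_dvd_mul_right (Nat.dvd_gcd h2 h3) _
    rw [← hcop] at h4
    have h5 : r * Nat.card G ∣ Nat.card G := (mul_dvd_mul_left r hlcm).trans h4
    have h6 := Nat.le_of_dvd Nat.card_pos h5
    have h7 : 2 * Nat.card G ≤ r * Nat.card G := Nat.mul_le_mul_right _ hr.two_le
    have := Nat.card_pos (α := G)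
    omega
  -- elements whose order meets `c₃`
  have ht3 : ∀ v : G, v ≠ 1 → ∀ r : ℕ, r.Prime → r ∣ orderOf v → r ∣ c₃ → co v = c₃ := by
    intro v hv r hr hrv hr3
    have hrco : r ∣ co v := hrv.trans (orderOf_dvd_co v)
    rcases htype v hv with h | h | h
    · exact absurd (Nat.dvd_gcd (h ▸ hrco |>.trans hd) hr3) (hco23.gcd_eq_one ▸ hr.not_dvd_one)
    · exact absurd (Nat.dvd_gcd (h ▸ hrco) hr3) (hco23.gcd_eq_one ▸ hr.not_dvd_one)
    · exact h
  have hinC : ∀ b : G, co b = c₃ → ∀ v ∈ cent b, v ≠ 1 → co v = c₃ := by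
    intro b hb v hv hv1
    obtain ⟨r, hr, hrv⟩ := Nat.exists_prime_and_dvd (fun e => hv1 (orderOf_eq_one_iff.1 e))
    exact ht3 v hv1 r hr hrv (hrv.trans (hb ▸ Subgroup.orderOf_dvd_natCard _ hv))
  have hnp : ∀ p k : ℕ, p.Prime → c₃ ≠ p ^ k := by
    intro p k hp hpk
    have h1 : cl a₀ = p ^ k := by
      have := co_mul_cl a₀
      rw [ha₀, hcop, hpk] at this
      exact Nat.eq_of_mul_eq_mul_left (hc₂d ▸ co_pos x₂) this
    have hprime := CharInt.card_prime_of_class_prime_pow hp ha₀1 h1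
    haveI := Fact.mk hprime
    haveI := isCyclic_of_prime_card (α := G) rfl
    exact hne ⟨⟨fun x y => (IsCyclic.commGroup (α := G)).mul_comm x y⟩⟩
  have hsc : ∀ b : G, b ≠ 1 → co b = c₃ → (∃ p i, p.Prime ∧ orderOf b = p ^ i) →
      OddOrder.IsSelfCent (cent b) := by
    rintro b hb1 hb ⟨p, i, hp, hbp⟩
    -- coprime elements
    have hcop' : ∀ x y : G, x ∈ cent b → y ∈ cent b → x ∈ cent y → x ≠ 1 → y ≠ 1 →
        (orderOf x).Coprime (orderOf y) → cent x = cent y := by
      intro x y hx hy hxy hx1 hy1 hc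
      have hcm : x * y = y * x := (mem_cent.1 hxy).symm
      have hinf := cent_mul_coprime hcm hc
      have hxy1 : x * y ≠ 1 := fun e => by
        have := (show Commute x y from hcm).orderOf_mul_eq_mul_orderOf_of_coprime hc
        rw [e, orderOf_one] at this
        exact hx1 (orderOf_eq_one_iff.1 (Nat.eq_one_of_mul_eq_one_right this.symm))
      have h3 : co (x * y) = c₃ := hinC b hb _ (mul_mem hx hy) hxy1
      have e1 := eq_of_co (hinf.le.trans inf_le_left) (h3.trans (hinC b hb x hx hx1).symm)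
      have e2 := eq_of_co (hinf.le.trans inf_le_right) (h3.trans (hinC b hb y hy hy1).symm)
      exact e1.symm.trans e2
    -- an element of another prime order
    obtain ⟨j, M, hM, hj⟩ := Nat.exists_eq_pow_mul_and_not_dvd (hb ▸ (co_pos b).ne' : c₃ ≠ 0) p hp.ne_one
    have hM1 : M ≠ 1 := fun e => hnp p j hp (by rw [hj, e, mul_one])
    obtain ⟨r, hr, hrM⟩ := Nat.exists_prime_and_dvd hM1
    have hrp : r ≠ p := fun e => hM (e ▸ hrM)
    haveI := Fact.mk hr
    obtain ⟨w, hw⟩ := exists_prime_orderOf_dvd_card' r (G := cent b) (by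
      change r ∣ co b; rw [hb, hj]; exact hrM.mul_left _)
    have hw' : orderOf (w : G) = r := by rw [Subgroup.orderOf_coe, hw]
    have hw1 : (w : G) ≠ 1 := fun e => by rw [e, orderOf_one] at hw'; exact hr.ne_one hw'.symm
    have hwb : cent (w : G) = cent b := hcop' _ _ w.2 (self_mem_cent b) w.2 hw1 hb1
      (by rw [hw', hbp]; exact Nat.Coprime.pow_right _ ((Nat.coprime_primes hr hp).2 hrp))
    intro v hv hv1
    obtain ⟨q, hq, hqv⟩ := Nat.exists_prime_and_dvd (fun e => hv1 (orderOf_eq_one_iff.1 e))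
    obtain ⟨y, y', hy, -, hvy, -, -, hqy, hyq⟩ := exists_split q v
    have hy1 : y ≠ 1 := by
      rintro rfl
      rw [one_mul] at hvy
      rw [hvy] at hqv
      exact hq.not_dvd_one (hyq.gcd_eq_one ▸ Nat.dvd_gcd hqv dvd_rfl)
    have hyb : y ∈ cent b := (Subgroup.zpowers_le.2 hv) hy
    have hyv : cent v = cent y := eq_of_co (cent_le_of_mem_zpowers hy)
      ((hinC b hb v hv hv1).trans (hinC b hb y hyb hy1).symm)
    have hyord : ∃ k, orderOf y = q ^ k := ⟨_, Nat.eq_prime_pow_of_unique_prime_dvd (orderOf_pos y).ne'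
      fun {d} hd hdy => (Nat.prime_dvd_prime_iff_eq hd hq).1 (hqy d hd hdy)⟩
    obtain ⟨k, hk⟩ := hyord
    show cent v = cent b
    rw [hyv]
    by_cases hqp : q = p
    · rw [← hwb]
      exact hcop' y w hyb w.2 (by rw [hwb]; exact hyb) hy1 hw1
        (by rw [hk, hw', hqp]; exact Nat.Coprime.pow_left _ ((Nat.coprime_primes hp hr).2 hrp.symm))
    · exact hcop' y b hyb (self_mem_cent b) hyb hy1 hb1
        (by rw [hk, hbp]; exact Nat.Coprime.pow _ _ ((Nat.coprime_primes hq hp).2 hqp))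
  haveI : Fact (Nat.Prime 2) := ⟨Nat.prime_two⟩
  have hne' : ¬ ∀ a b : G, a * b = b * a := fun h1 => hne (isMulCommutative_iff.2 h1)
  by_cases h2G : 2 ∣ Nat.card G
  swap
  · exfalso
    have hodd : Odd (Nat.card G) := Nat.odd_iff.2 (by omega)
    refine false_of_regular hne' ha₀1 (three_le_rank_of_odd hodd fun htop => ?_)
      (hsc b₀ hb₀1 hb₀ ⟨pb, ib, hpb, hob⟩) ?_ ?_ ?_
    · have := co_lt hne ha₀1
      change cent a₀ = ⊤ at htop
      rw [co, htop, Subgroup.card_top] at this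
      omega
    · change (co a₀).Coprime (co b₀)
      rw [ha₀, hb₀]; exact hco23
    · change co a₀ * co b₀ = _
      rw [ha₀, hb₀, hcop]
    · intro p k hp
      change co b₀ ≠ _
      rw [hb₀]; exact hnp p k hp
  by_cases heven : 2 ∣ c₃
  · refine exists_psl hne h2G fun t ht => ?_
    have ht1 : t ≠ 1 := fun e => by rw [e, orderOf_one] at ht; omega
    have hS := hsc t ht1 (ht3 t ht1 2 Nat.prime_two (ht ▸ dvd_rfl) heven)
      ⟨2, 1, Nat.prime_two, by rw [pow_one, ht]⟩
    exact fun x hx y hy => hS.comm hx hy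
  -- the orders of 2-elements
  have ht12 : ∀ u : G, u ≠ 1 → 2 ∣ orderOf u → co u = c₁ ∨ co u = c₂ := by
    intro u hu h2
    rcases htype u hu with h | h | h
    · exact Or.inl h
    · exact Or.inr h
    · exact absurd (h2.trans (h ▸ orderOf_dvd_co u)) heven
  by_cases hII : ∀ u : G, u ≠ 1 → (∃ k, orderOf u = 2 ^ k) → co u = c₁
  · refine psl_of_squares hne h2G (fun u ⟨k, hk⟩ hu2 => ?_) fun t v ht hv hv2 => ?_
    · have hu1 : u ≠ 1 := fun e => hu2 (by rw [e, one_pow])
      refine eq_of_co (cent_le_of_mem_zpowers (pow_mem (Subgroup.mem_zpowers u) 2)) ?_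
      rw [hII u hu1 ⟨k, hk⟩, hII (u ^ 2) hu2]
      obtain ⟨i, -, hi⟩ := (Nat.dvd_prime_pow Nat.prime_two).1 (hk ▸ orderOf_pow_dvd 2)
      exact ⟨i, hi⟩
    · have ht1 : t ≠ 1 := fun e => by rw [e, orderOf_one] at ht; omega
      by_cases hv1 : v = 1
      · exact fun g _ => mem_cent.2 (by rw [hv1, one_mul, mul_one])
      have hcm : t * v = v * t := mem_cent.1 hv
      have hco2 : (orderOf t).Coprime (orderOf v) := ht ▸ hv2.symm
      have hinf := cent_mul_coprime hcm hco2
      have htv1 : t * v ≠ 1 := fun e => by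
        have := (show Commute t v from hcm).orderOf_mul_eq_mul_orderOf_of_coprime hco2
        rw [e, orderOf_one, ht] at this
        omega
      have hct := hII t ht1 ⟨1, by rw [pow_one, ht]⟩
      have hd1 : co (t * v) ∣ c₁ := hct ▸ co_dvd (hinf.le.trans inf_le_left)
      have heq : cent (t * v) = cent t := by
        refine eq_of_co (hinf.le.trans inf_le_left) ?_
        rcases htype _ htv1 with h | h | h
        · rw [h, hct]
        · exact absurd (h ▸ hd1) h21
        · exact absurd (h ▸ hd1) h31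
      exact heq ▸ hinf.le.trans inf_le_right
  exfalso
  push Not at hII
  obtain ⟨u, hu1, ⟨k, hk⟩, huc⟩ := hII
  have hk0 : k ≠ 0 := fun e => hu1 (orderOf_eq_one_iff.1 (by rw [hk, e, pow_zero]))
  have hu2 : 2 ∣ orderOf u := hk ▸ dvd_pow_self 2 hk0
  have huc2 : co u = c₂ := (ht12 u hu1 hu2).resolve_left huc
  set z := u ^ (orderOf u / 2) with hzdef
  have hz : orderOf z = 2 := orderOf_pow_orderOf_div (orderOf_pos u).ne' hu2
  have hz1 : z ≠ 1 := fun e => by rw [e, orderOf_one] at hz; omega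
  have hzc : co z = c₂ := by
    have h1 := co_dvd (cent_le_of_mem_zpowers (pow_mem (Subgroup.mem_zpowers u) (orderOf u / 2)))
    rw [huc2, ← hzdef] at h1
    rcases ht12 z hz1 (hz ▸ dvd_rfl) with h | h
    · exact absurd (h ▸ h1) h21
    · exact h
  refine false_of_regular hne' hz1 (three_le_rank hne' hz) (hsc b₀ hb₀1 hb₀ ⟨pb, ib, hpb, hob⟩) ?_ ?_ ?_
  · change (co z).Coprime (co b₀)
    rw [hzc, hb₀]; exact hco23
  · change co z * co b₀ = _
    rw [hzc, hb₀, hcop]
  · intro p k hp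
    change co b₀ ≠ _
    rw [hb₀]; exact hnp p k hp

end Cfsg.Agent.ThreeSizes
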