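import Cfsg.Agent.Lib.ClassSize.CoprimeTop
import Cfsg.Agent.Lib.PSL2.AbelianInvol.Main
import Cfsg.Agent.Lib.PSL2.Classes
import Cfsg.Agent.Lib.SmallSimple.Tools

/-!
# Commutative Sylow 2-subgroups from centralisers of squares; simple groups with abelian
involution centralisers
-/

set_option autoImplicit false
set_option linter.style.haveILetI false

namespace Cfsg.Agent.ThreeSizes

open Cfsg.Agent.ClassSize.CoprimeTop
open Cfsg.Agent
open scoped MatrixGroups

variable {G : Type*} [Group G] [Finite G]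

/-- If every 2-element has the centraliser of its square then the Sylow 2-subgroups commute. -/
theorem sylow_two_comm [Fact (Nat.Prime 2)] (T : Sylow 2 G)
    (h : ∀ u ∈ (T : Subgroup G), u ^ 2 ≠ 1 → cent u = cent (u ^ 2)) :
    ∀ x ∈ (T : Subgroup G), ∀ y ∈ (T : Subgroup G), x * y = y * x := by
  classical
  by_contra hne
  set P := (T : Subgroup G) with hP
  set Z := Subgroup.center P with hZdef
  have hmemZ : ∀ x : P, x ∈ Z → ∀ y : P, (x : G) * y = y * x := fun x hx y =>
    (congrArg Subtype.val (Subgroup.mem_center_iff.1 hx y)).symm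
  have hsq : ∀ x : P, x ^ 2 ≠ 1 → x ^ 2 ∈ Z → x ∈ Z := by
    intro x hx hxZ
    refine Subgroup.mem_center_iff.2 fun y => Subtype.ext ?_
    have h1 : cent (x : G) = cent ((x : G) ^ 2) := h x x.2 fun e => hx (Subtype.ext e)
    have h2 : (y : G) ∈ cent ((x : G) ^ 2) := by
      rw [mem_cent]; simpa using hmemZ _ hxZ y
    rw [← h1, mem_cent] at h2
    exact h2.symm
  have hZtop : Z ≠ ⊤ := fun e => hne fun x hx y hy =>
    hmemZ ⟨x, hx⟩ (e ▸ Subgroup.mem_top _) ⟨y, hy⟩
  obtain ⟨t, ht, htZ, htc⟩ : ∃ t : P, t ^ 2 = 1 ∧ t ∉ Z ∧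
      QuotientGroup.mk' Z t ∈ Subgroup.center (P ⧸ Z) := by
    haveI : Nontrivial (P ⧸ Z) := by
      rw [← Finite.one_lt_card_iff_nontrivial]
      exact Subgroup.one_lt_index_of_ne_top hZtop
    haveI := (T.isPGroup'.to_quotient Z).center_nontrivial
    obtain ⟨c, hc⟩ := exists_ne (1 : Subgroup.center (P ⧸ Z))
    obtain ⟨x, hx⟩ := QuotientGroup.mk'_surjective Z (c : P ⧸ Z)
    have hxZ : x ∉ Z := fun e => hc (Subtype.ext (by
      rw [← hx]; exact (QuotientGroup.eq_one_iff x).2 e))
    obtain ⟨n, hn⟩ := T.isPGroup' x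
    have key : ∀ (n : ℕ) (x : P), x ^ 2 ^ n = 1 → x ∉ Z →
        QuotientGroup.mk' Z x ∈ Subgroup.center (P ⧸ Z) →
        ∃ t : P, t ^ 2 = 1 ∧ t ∉ Z ∧ QuotientGroup.mk' Z t ∈ Subgroup.center (P ⧸ Z) := by
      intro n
      induction n with
      | zero =>
        intro x hx hxZ _
        rw [pow_zero, pow_one] at hx
        exact absurd (hx ▸ one_mem Z) hxZ
      | succ n ih =>
        intro x hx hxZ hxc
        by_cases hx2 : x ^ 2 = 1
        · exact ⟨x, hx2, hxZ, hxc⟩
        · refine ih (x ^ 2) (by rwa [← pow_mul, ← pow_succ']) (fun e => hxZ (hsq x hx2 e)) ?_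
          rw [map_pow]; exact pow_mem hxc 2
    exact key n x hn hxZ (hx.symm ▸ c.2)
  obtain ⟨e, he⟩ : ∃ e : P, t * e ≠ e * t := by
    by_contra hall
    push Not at hall
    exact htZ (Subgroup.mem_center_iff.2 fun y => (hall y).symm)
  -- any element not commuting with `t` is an involution
  have hinv : ∀ e : P, t * e ≠ e * t → e ^ 2 = 1 := by
    intro e he
    by_contra he2
    refine he (Subtype.ext ?_)
    have hz : t * e * t⁻¹ * e⁻¹ ∈ Z := by
      refine (QuotientGroup.eq_one_iff _).1 ?_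
      have := Subgroup.mem_center_iff.1 htc (QuotientGroup.mk' Z e)
      show QuotientGroup.mk' Z (t * e * t⁻¹ * e⁻¹) = 1
      rw [map_mul, map_mul, map_mul, ← this, map_inv, map_inv]
      group
    set z := t * e * t⁻¹ * e⁻¹ with hzdef
    have hzc : ∀ y : P, y * z = z * y := fun y => Subgroup.mem_center_iff.1 hz y
    have hte : t * e * t⁻¹ = z * e := by rw [hzdef]; group
    have hti : t⁻¹ = t := inv_eq_of_mul_eq_one_right (by rw [← pow_two, ht])
    have hz2 : z * z = 1 := by
      have a1 : t * (z * e) * t⁻¹ = z * (z * e) := by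
        rw [show t * (z * e) * t⁻¹ = (t * z) * e * t⁻¹ by group, hzc t,
          show z * t * e * t⁻¹ = z * (t * e * t⁻¹) by group, hte]
      have a2 : t * (t * e * t⁻¹) * t⁻¹ = e := by
        rw [show t * (t * e * t⁻¹) * t⁻¹ = (t * t) * e * (t * t)⁻¹ by group,
          show t * t = 1 by rw [← pow_two, ht]]
        group
      rw [hte, a1] at a2
      have h2 : z * z * e = 1 * e := by rw [mul_assoc, a2, one_mul]
      exact mul_right_cancel h2
    have hte2 : t * (e ^ 2) * t⁻¹ = e ^ 2 := by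
      rw [← conj_pow, hte, pow_two, pow_two, show z * e * (z * e) = z * (e * z) * e by group,
        hzc e, show z * (z * e) * e = (z * z) * (e * e) by group, hz2, one_mul]
    have hcc : (t : G) ∈ cent ((e : G) ^ 2) := by
      rw [mem_cent]
      exact (congrArg Subtype.val (mul_inv_eq_iff_eq_mul.1 hte2)).symm
    rw [← h e e.2 fun e1 => he2 (Subtype.ext e1), mem_cent] at hcc
    exact hcc.symm
  have he' : t * (t * e) ≠ t * e * t := fun h1 => he (by
    rw [mul_assoc t e t] at h1; exact mul_left_cancel h1)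
  have h1 := hinv e he
  have h2 := hinv (t * e) he'
  rw [pow_two] at h1 h2 ht
  refine he ?_
  calc t * e = (t * e)⁻¹ := (inv_eq_of_mul_eq_one_right h2).symm
    _ = e * t := by
      rw [mul_inv_rev, inv_eq_of_mul_eq_one_right h1, inv_eq_of_mul_eq_one_right ht]

/-- A centraliser of an involution is commutative if its odd elements are central and the Sylow
2-subgroups are commutative. -/
theorem cent_comm_of {t : G}
    (hS : ∀ T : Sylow 2 G, ∀ x ∈ (T : Subgroup G), ∀ y ∈ (T : Subgroup G), x * y = y * x)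
    (hodd : ∀ v ∈ cent t, (orderOf v).Coprime 2 → ∀ w ∈ cent t, v * w = w * v) :
    ∀ x ∈ cent t, ∀ y ∈ cent t, x * y = y * x := by
  classical
  haveI : Fact (Nat.Prime 2) := ⟨Nat.prime_two⟩
  set K := cent t with hK
  haveI : Group.IsNilpotent K := by
    refine Group.of_quotient_center_nilpotent ?_
    refine IsPGroup.isNilpotent (p := 2) fun q => ?_
    obtain ⟨g, rfl⟩ := QuotientGroup.mk'_surjective (Subgroup.center K) q
    obtain ⟨a, b, -, hb, hab, hcomm, -, hpa, hcb⟩ := exists_split 2 g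
    have hbZ : b ∈ Subgroup.center K := Subgroup.mem_center_iff.2 fun w => Subtype.ext
      (hodd b b.2 (by rwa [Subgroup.orderOf_coe]) w w.2).symm
    obtain ⟨k, hk⟩ : ∃ k, orderOf a = 2 ^ k := ⟨_, Nat.eq_prime_pow_of_unique_prime_dvd
      (orderOf_pos a).ne' fun {d} hd hda => (Nat.prime_dvd_prime_iff_eq hd Nat.prime_two).1 (hpa d hd hda)⟩
    refine ⟨k, ?_⟩
    rw [← map_pow, hab, (show Commute a b from hcomm).mul_pow, ← hk, pow_orderOf_eq_one, one_mul]
    exact (QuotientGroup.eq_one_iff _).2 (pow_mem hbZ _)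
  obtain ⟨T₀⟩ := (inferInstance : Nonempty (Sylow 2 K))
  haveI hTn : (T₀ : Subgroup K).Normal :=
    Sylow.normal_of_normalizerCondition Group.normalizerCondition_of_isNilpotent T₀
  haveI := Sylow.unique_of_normal T₀ hTn
  obtain ⟨T, hT⟩ := (T₀.isPGroup'.map K.subtype).exists_le_sylow
  intro x hx y hy
  obtain ⟨a, b, ha, hb, rfl, -, -, hpa, hcb⟩ := exists_split 2 x
  obtain ⟨a', b', ha', hb', rfl, -, -, hpa', hcb'⟩ := exists_split 2 y
  have hmem : ∀ {g u : G}, g ∈ K → u ∈ Subgroup.zpowers g → u ∈ K := fun hg hu =>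
    (Subgroup.zpowers_le.2 hg) hu
  have hT2 : ∀ {u : G}, u ∈ K → (∀ q : ℕ, q.Prime → q ∣ orderOf u → q ∣ 2) →
      u ∈ (T : Subgroup G) := by
    intro u hu hpu
    obtain ⟨k, hk⟩ : ∃ k, orderOf u = 2 ^ k := ⟨_, Nat.eq_prime_pow_of_unique_prime_dvd
      (orderOf_pos u).ne' fun {d} hd hda => (Nat.prime_dvd_prime_iff_eq hd Nat.prime_two).1 (hpu d hd hda)⟩
    obtain ⟨S, hS'⟩ := (IsPGroup.of_card (n := k) (by
      rw [Nat.card_zpowers, Subgroup.orderOf_mk, hk]) :
      IsPGroup 2 (Subgroup.zpowers (⟨u, hu⟩ : K))).exists_le_sylow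
    rw [Subsingleton.elim S T₀] at hS'
    exact hT ⟨_, hS' (Subgroup.mem_zpowers _), rfl⟩
  have hak : a ∈ K := hmem hx ha
  have hbk : b ∈ K := hmem hx hb
  have hak' : a' ∈ K := hmem hy ha'
  have hbk' : b' ∈ K := hmem hy hb'
  have c1 : Commute a a' := hS T a (hT2 hak hpa) a' (hT2 hak' hpa')
  have c2 : Commute b a' := hodd b hbk hcb a' hak'
  have c3 : Commute b b' := hodd b hbk hcb b' hbk'
  have c4 : Commute a b' := (hodd b' hbk' hcb' a hak).symm
  exact ((c1.mul_right c4).mul_left (c2.mul_right c3)).eq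

/-- A non-abelian simple group of even order with commutative involution centralisers is
`PSL_2 (2^m)`. -/
theorem exists_psl [IsSimpleGroup G] (hne : ¬ IsMulCommutative G) (h2 : 2 ∣ Nat.card G)
    (h : ∀ t : G, orderOf t = 2 → ∀ x ∈ cent t, ∀ y ∈ cent t, x * y = y * x) :
    ∃ (m : ℕ) (F : Type) (_ : Field F) (_ : Fintype F), 2 ≤ m ∧ Fintype.card F = 2 ^ m ∧
      Nonempty (G ≃* PSL(2, F)) := by
  classical
  haveI : Fact (Nat.Prime 2) := ⟨Nat.prime_two⟩
  haveI hnt : Nontrivial G := IsSimpleGroup.toNontrivial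
  have hne' : ¬ ∀ a b : G, a * b = b * a := fun h1 => hne (isMulCommutative_iff.2 h1)
  have hH : PSL2.AbInv.Hyp G := fun t ht => ⟨⟨fun x y => Subtype.ext (h t ht x x.2 y y.2)⟩⟩
  obtain ⟨T⟩ := (inferInstance : Nonempty (Sylow 2 G))
  have hnc : ¬ IsCyclic (T : Subgroup G) := by
    intro hc
    have hmin : (Nat.card G).minFac = 2 := (Nat.minFac_eq_two_iff _).2 h2
    have hT1 : 2 ∣ Nat.card (T : Subgroup G) := T.dvd_card_of_dvd_card h2
    have hnd := MonoidHom.not_dvd_card_ker_transferSylow T (hc.normalizer_le_centralizer hmin)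
    rcases (MonoidHom.normal_ker (MonoidHom.transferSylow T
      (hc.normalizer_le_centralizer hmin))).eq_bot_or_eq_top with hb | ht
    · have hinj := (MonoidHom.ker_eq_bot_iff _).1 hb
      haveI := hc
      letI := IsCyclic.commGroup (α := (T : Subgroup G))
      exact hne' fun a b => hinj (by rw [map_mul, map_mul, mul_comm])
    · rw [ht, Subgroup.card_top] at hnd
      exact hnd h2
  have hnn : ¬ (T : Subgroup G).Normal := by
    intro hN
    rcases hN.eq_bot_or_eq_top with hb | ht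
    · exact hnc (by rw [hb]; infer_instance)
    · haveI hnil : Group.IsNilpotent G := by
        haveI : Group.IsNilpotent (⊤ : Subgroup G) := by rw [← ht]; exact T.isPGroup'.isNilpotent
        exact Group.nilpotent_of_mulEquiv Subgroup.topEquiv
      exact hne' (IsSimpleGroup.comm_iff_isSolvable.2 inferInstance)
  obtain ⟨K, iK, iKf, A, iA, iAf, hK, hA, ⟨e⟩⟩ := PSL2.AbInv.exists_equiv hH T hnc hnn
  haveI := hK
  haveI hA1 : Subsingleton A := by
    by_contra hA1
    rw [not_subsingleton_iff_nontrivial] at hA1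
    set f : G →* SL(2, K) := (MonoidHom.fst _ _).comp e.toMonoidHom with hf
    rcases (MonoidHom.normal_ker f).eq_bot_or_eq_top with hb | ht
    · obtain ⟨a, ha⟩ := exists_ne (1 : A)
      have : e.symm (1, a) ∈ f.ker := by
        rw [MonoidHom.mem_ker]
        show (e (e.symm (1, a))).1 = 1
        rw [MulEquiv.apply_symm_apply]
      rw [hb, Subgroup.mem_bot, map_eq_one_iff _ e.symm.injective] at this
      exact ha (congrArg Prod.snd this)
    · have : e.symm (PSL2.uu 1, 1) ∈ f.ker := ht ▸ Subgroup.mem_top _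
      rw [MonoidHom.mem_ker] at this
      change (e (e.symm (PSL2.uu 1, (1 : A)))).1 = 1 at this
      rw [MulEquiv.apply_symm_apply] at this
      simp at this
  have h2K : (2 : K) = 0 := CharTwo.two_eq_zero
  obtain ⟨m, -, hm⟩ := FiniteField.card K 2
  haveI : Unique A := uniqueOfSubsingleton 1
  let φ : G ≃* SL(2, K) := e.trans
    { toFun := Prod.fst, invFun := fun x => (x, 1),
      left_inv := fun x => Prod.ext rfl (Subsingleton.elim _ _), right_inv := fun _ => rfl,
      map_mul' := fun _ _ => rfl }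
  have hm2 : 2 ≤ (m : ℕ) := by
    by_contra hlt
    have hm1 : (m : ℕ) = 1 := by have := m.pos; omega
    have hcard : Nat.card G = 2 ^ 1 * 3 := by
      rw [Nat.card_congr φ.toEquiv, PSL2.card_SL, hm, hm1]; norm_num
    refine hnc (isCyclic_of_prime_card (p := 2) ?_)
    rw [SmallSimple.card_sylow_subgroup hcard (by norm_num) T, pow_one]
  refine ⟨m, K, iK, iKf, hm2, hm, ⟨φ.trans (MulEquiv.ofBijective PSL2.mk ⟨fun x y hxy => ?_,
    PSL2.mk_surjective⟩)⟩⟩
  rcases PSL2.mk_eq_mk.1 hxy with h1 | h1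
  · exact h1
  · refine h1.trans ?_
    ext i j; simp [CharTwo.neg_eq]

end Cfsg.Agent.ThreeSizes
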